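import Cfsg.Agent.H371.PU.Row
import Cfsg.Agent.H187.TwF4Par
import Cfsg.Agent.TitsK.RankRK
import Cfsg.Agent.KFacts.TwF4.OutTwo
import Cfsg.Agent.S1074
import Cfsg.Agent.H271.PU.Iface

/-!
# S3046, rows `²F₄(q)`, `²F₄(2)'` and `²F₄(2)` (helper371)

* `row_twF4`, `row_tits`: the conclusion of S3046 for a group with a normal subgroup `K` of type `²F₄(q)` (resp. the Tits
  group) with trivial centralizer.
-/

set_option autoImplicit false
set_option linter.unusedSectionVars false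

namespace Cfsg.Agent.H371.PU

open Cfsg.Agent.KFacts.TwF4 Cfsg.Agent.KFacts.TwF4.Full Cfsg.Agent.KFacts.TwF4.Arc
open Cfsg.Agent.KFacts.TwF4.Inv Cfsg.Agent.KFacts.TwF4.SylU Cfsg.Agent.KFacts.TwF4.Irr
open Cfsg.Agent.SplitTwo Cfsg.Agent.SplitTwo.ZS Cfsg.Agent.TitsThree.RankTwoZ
open Cfsg.Agent.SplitTwo.RootSysZ Subgroup Cfsg Cfsg.Lie Cfsg.Agent.H248.TwF4Over
open scoped Pointwise

universe u v

section emb

variable {G : Type u} [Group G] {H : Type v} [Group H] {N : Subgroup G} {K : Subgroup H}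

open Classical in
/-- `Emb` from an isomorphism -/
noncomputable def Emb.ofEquiv (e : ↥N ≃* ↥K) : Emb N K where
  j x := if hx : x ∈ N then (e ⟨x, hx⟩ : H) else 1
  mul := by
    intro x hx y hy
    rw [dif_pos (mul_mem hx hy), dif_pos hx, dif_pos hy, ← coe_mul, ← map_mul]
    rfl
  inj := by
    intro x hx y hy h
    rw [dif_pos hx, dif_pos hy] at h
    have h1 := e.injective (Subtype.ext h)
    exact congrArg Subtype.val h1
  mem := by
    intro x hx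
    rw [dif_pos hx]
    exact (e ⟨x, hx⟩).2
  surj := by
    intro k hk
    refine ⟨(e.symm ⟨k, hk⟩ : G), (e.symm ⟨k, hk⟩).2, ?_⟩
    rw [dif_pos (e.symm ⟨k, hk⟩).2]
    show ((e (e.symm ⟨k, hk⟩) : ↥K) : H) = k
    rw [e.apply_symm_apply]

/-- conjugate of an `Emb` -/
def Emb.conjBy [hK : K.Normal] (E : Emb N K) (h : H) : Emb N K where
  j x := h * E.j x * h⁻¹
  mul := by
    intro x hx y hy
    rw [E.mul x hx y hy]
    group
  inj := by
    intro x hx y hy e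
    refine E.inj x hx y hy ?_
    simpa using e
  mem := fun x hx => hK.conj_mem _ (E.mem x hx) h
  surj := by
    intro k hk
    obtain ⟨x, hx, e⟩ := E.surj (h⁻¹ * k * h) (by simpa using hK.conj_mem _ hk h⁻¹)
    refine ⟨x, hx, ?_⟩
    rw [e]
    group

theorem Emb.pow (E : Emb N K) {x : G} (hx : x ∈ N) (n : ℕ) : E.j (x ^ n) = E.j x ^ n := by
  induction n with
  | zero => rw [pow_zero, pow_zero, E.one]
  | succ n ih => rw [pow_succ, pow_succ, E.mul _ (pow_mem hx n) _ hx, ih]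

theorem exists_emb [Finite H] [hK : K.Normal] (E : Emb N K) {U : Subgroup G} (hU : IsPGroup 2 U)
    (hidx : ¬ 2 ∣ (U.subgroupOf N).index) (Sy : Sylow 2 H) (hSy : (Sy : Subgroup H) ≤ K) :
    ∃ E' : Emb N K, (Sy : Subgroup H) = E'.I U := by
  have hfact : Fact (Nat.Prime 2) := ⟨Nat.prime_two⟩
  obtain ⟨T, hT⟩ := (E.isPGroup_I hU).exists_le_sylow
  obtain ⟨g, hg⟩ := MulAction.exists_smul_eq H T Sy
  have hmem : ∀ t, t ∈ (T : Subgroup H) → g * t * g⁻¹ ∈ (Sy : Subgroup H) := by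
    intro t ht
    rw [← hg]
    have h1 := smul_mem_pointwise_smul t (MulAut.conj g) (T : Subgroup H) ht
    exact h1
  have hTK : (T : Subgroup H) ≤ K := by
    intro t ht
    have h1 := hK.conj_mem _ (hSy (hmem t ht)) g⁻¹
    have e : g⁻¹ * (g * t * g⁻¹) * g⁻¹⁻¹ = t := by group
    rwa [e] at h1
  -- `T = E.I U`
  have hP : IsPGroup 2 ↥((E.Ph (T : Subgroup H)).subgroupOf N) := by
    rintro ⟨⟨x, hxN⟩, hx⟩
    have hx' : x ∈ E.Ph (T : Subgroup H) := hx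
    obtain ⟨k, hk⟩ := T.2 ⟨E.j x, hx'.2⟩
    refine ⟨k, Subtype.ext (Subtype.ext ?_)⟩
    have h1 : E.j x ^ 2 ^ k = 1 := congrArg Subtype.val hk
    rw [← E.pow hxN] at h1
    exact E.eq_one (pow_mem hxN _) h1
  have hUN : IsPGroup 2 ↥(U.subgroupOf N) := hU.comap_of_injective N.subtype N.subtype_injective
  have hle : U.subgroupOf N ≤ (E.Ph (T : Subgroup H)).subgroupOf N := by
    rintro ⟨x, hxN⟩ hx
    exact ⟨hxN, hT ⟨x, hxN, hx, rfl⟩⟩
  have heq := (IsPGroup.toSylow hUN hidx).is_maximal' hP (by rwa [IsPGroup.toSylow_coe])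
  rw [IsPGroup.toSylow_coe] at heq
  have hTI : (T : Subgroup H) = E.I U := by
    refine le_antisymm (fun t ht => ?_) hT
    obtain ⟨x, hx, rfl⟩ := E.surj t (hTK ht)
    refine ⟨x, hx, ?_, rfl⟩
    have h1 : (⟨x, hx⟩ : ↥N) ∈ (E.Ph (T : Subgroup H)).subgroupOf N := ⟨hx, ht⟩
    rw [heq] at h1
    exact h1
  refine ⟨E.conjBy g, ?_⟩
  rw [← hg]
  refine le_antisymm ?_ ?_
  · intro y hy
    have hy' : y ∈ MulAut.conj g • (T : Subgroup H) := hy
    rw [mem_pointwise_smul_iff_inv_smul_mem, hTI] at hy'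
    obtain ⟨x, hx, hxU, e⟩ := hy'
    refine ⟨x, hx, hxU, ?_⟩
    show g * E.j x * g⁻¹ = y
    rw [e, ← map_inv]
    show g * (g⁻¹ * y * g⁻¹⁻¹) * g⁻¹ = y
    group
  · rintro y ⟨x, hx, hxU, e⟩
    show y ∈ MulAut.conj g • (T : Subgroup H)
    rw [hTI, ← e]
    exact smul_mem_pointwise_smul (E.j x) (MulAut.conj g) _ ⟨x, hx, hxU, rfl⟩

end emb

section rows

variable {H : Type v} [Group H] [Finite H]

/-- the conclusion of S3046 from an isomorphism `N ≃ K`, `S ≤ K` -/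
theorem main' {F : Type} [Field F] [Fintype F] (hchar : ringChar F = 2) {σ : F →+* F} {G : Type u} [Group G] [Finite G]
    {S : Full σ G} {N : Subgroup G} {K : Subgroup H} [K.Normal] (NF : NFacts S N) (e : ↥N ≃* ↥K) (Sy : Sylow 2 H)
    (hSy : (Sy : Subgroup H) ≤ K) (Z C Q : Subgroup H)
    (hZ : Z = omegaOne 2 ((Sy : Subgroup H) ⊓ centralizer ((Sy : Subgroup H) : Set H)))
    (hCloc : ∃ T : Subgroup H, IsPGroup 2 ↥T ∧ T ≠ ⊥ ∧ C = normalizer (T : Set H))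
    (hCmax : ∀ L : Subgroup H, (∃ T : Subgroup H, IsPGroup 2 ↥T ∧ T ≠ ⊥ ∧ L = normalizer (T : Set H)) → C ≤ L → L = C)
    (hNZ : normalizer (Z : Set H) ≤ C) (hQ : Q = (pCore 2 ↥C).map C.subtype)
    (P : Subgroup H) (hSP : (Sy : Subgroup H) ≤ P) (hPmin : IsPMinimal 2 ↥P)
    (hPchar : centralizer (((pCore 2 ↥P).map P.subtype : Subgroup H) : Set H) ≤ (pCore 2 ↥P).map P.subtype)
    (hPC : ¬ P ≤ C) (Pstar : Subgroup H)
    (hPstar : Pstar = (normalClosure ((Q.subgroupOf P : Subgroup ↥P) : Set ↥P)).map P.subtype ⊔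
      (pCore 2 ↥P).map P.subtype) :
    (∃ (F : Type) (_ : Field F) (_ : Fintype F), ringChar F = 2 ∧
       IsNaturalSL2Module F (largestPReducedOf 2 P) Pstar ∧
       Pstar ⊓ centralizer (largestPReducedOf 2 P : Set H) = (pCore 2 ↥P).map P.subtype) ∧
    omegaOne 2 (((Sy : Subgroup H) ⊓ Pstar) ⊓ centralizer (((Sy : Subgroup H) ⊓ Pstar : Subgroup H) : Set H)) ≤ C ∧
    ((omegaOne 2 (((Sy : Subgroup H) ⊓ Pstar) ⊓ centralizer (((Sy : Subgroup H) ⊓ Pstar : Subgroup H) : Set H))).subgroupOf C).Normal ∧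
    ∀ M : Subgroup H, M < P → (Sy : Subgroup H) ≤ M → (∀ M' : Subgroup H, M ≤ M' → M' < P → M' = M) → M = P ⊓ C := by
  obtain ⟨E, hE⟩ := exists_emb (Emb.ofEquiv e) NF.two NF.syl Sy hSy
  exact main hchar NF E Sy hE Z C Q hZ hCloc hCmax hNZ hQ P hSP hPmin hPchar hPC Pstar hPstar

/-- **row `²F₄(q)`, `q ≥ 8`** -/
theorem row_twF4 {K : Subgroup H} [hKn : K.Normal] (hK : Lie.Iso2F4 ↥K) (hc : centralizer (K : Set H) = ⊥) (Sy : Sylow 2 H)
    (Z C Q : Subgroup H)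
    (hZ : Z = omegaOne 2 ((Sy : Subgroup H) ⊓ centralizer ((Sy : Subgroup H) : Set H)))
    (hCloc : ∃ T : Subgroup H, IsPGroup 2 ↥T ∧ T ≠ ⊥ ∧ C = normalizer (T : Set H))
    (hCmax : ∀ L : Subgroup H, (∃ T : Subgroup H, IsPGroup 2 ↥T ∧ T ≠ ⊥ ∧ L = normalizer (T : Set H)) → C ≤ L → L = C)
    (hNZ : normalizer (Z : Set H) ≤ C) (hQ : Q = (pCore 2 ↥C).map C.subtype)
    (P : Subgroup H) (hSP : (Sy : Subgroup H) ≤ P) (hPmin : IsPMinimal 2 ↥P)
    (hPchar : centralizer (((pCore 2 ↥P).map P.subtype : Subgroup H) : Set H) ≤ (pCore 2 ↥P).map P.subtype)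
    (hPC : ¬ P ≤ C) (Pstar : Subgroup H)
    (hPstar : Pstar = (normalClosure ((Q.subgroupOf P : Subgroup ↥P) : Set ↥P)).map P.subtype ⊔
      (pCore 2 ↥P).map P.subtype) :
    (∃ (F : Type) (_ : Field F) (_ : Fintype F), ringChar F = 2 ∧
       IsNaturalSL2Module F (largestPReducedOf 2 P) Pstar ∧
       Pstar ⊓ centralizer (largestPReducedOf 2 P : Set H) = (pCore 2 ↥P).map P.subtype) ∧
    omegaOne 2 (((Sy : Subgroup H) ⊓ Pstar) ⊓ centralizer (((Sy : Subgroup H) ⊓ Pstar : Subgroup H) : Set H)) ≤ C ∧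
    ((omegaOne 2 (((Sy : Subgroup H) ⊓ Pstar) ⊓ centralizer (((Sy : Subgroup H) ⊓ Pstar : Subgroup H) : Set H))).subgroupOf C).Normal ∧
    ∀ M : Subgroup H, M < P → (Sy : Subgroup H) ≤ M → (∀ M' : Subgroup H, M ≤ M' → M' < P → M' = M) → M = P ⊓ C := by
  have hfact : Fact (Nat.Prime 2) := ⟨Nat.prime_two⟩
  obtain ⟨F, i1, i2, m, φ, S, -, hcard, ⟨e⟩, hR, hfin, hF⟩ := Cfsg.Agent.H187.exists_full hK
  have hchar : ringChar F = 2 := by
    have := Cfsg.Agent.ChevalleyStructure.TwF4.Twisted.charP_two hcard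
    exact ringChar.eq F 2
  obtain ⟨P0, hP0⟩ := exists_sylow S hF hR
  have h2 : IsPGroup 2 ↥(J S.XZ 1 8) := by rw [← hP0]; exact P0.isPGroup'
  have hsyl : ¬ 2 ∣ (J S.XZ 1 8).index := by rw [← hP0]; exact P0.not_dvd_index
  have NF := nfacts_top S h2 hsyl
  have hSy : (Sy : Subgroup H) ≤ K := by
    intro s hs
    obtain ⟨n, hn⟩ := Sy.2 ⟨s, hs⟩
    have hn' : s ^ 2 ^ n = 1 := congrArg Subtype.val hn
    have h1 : (MulAut.congr e (MulAut.conjNormal s : MulAut ↥K)) ^ 2 ^ n = 1 := by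
      rw [← map_pow, ← map_pow, hn', map_one, map_one]
    obtain ⟨x, hx⟩ := OutTwo.inner S (by rw [Nat.card_eq_fintype_card, hcard]) hF hR h1
    have h3 : ∀ k ∈ K, s * k * s⁻¹ = (e.symm x : H) * k * (e.symm x : H)⁻¹ := by
      intro k hk
      have h4 := DFunLike.congr_fun hx (e ⟨k, hk⟩)
      rw [MulAut.conj_apply] at h4
      have h5 : MulAut.congr e (MulAut.conjNormal s : MulAut ↥K) (e ⟨k, hk⟩) =
          e ((MulAut.conjNormal s : MulAut ↥K) (e.symm (e ⟨k, hk⟩))) := rfl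
      rw [h5, e.symm_apply_apply] at h4
      have h6 : (MulAut.conjNormal s : MulAut ↥K) ⟨k, hk⟩ = e.symm x * ⟨k, hk⟩ * (e.symm x)⁻¹ := by
        apply e.injective
        rw [h4, map_mul, map_mul, map_inv, e.apply_symm_apply]
      have h7 := congrArg Subtype.val h6
      rw [MulAut.conjNormal_apply] at h7
      exact h7
    have h8 : (e.symm x : H)⁻¹ * s ∈ centralizer (K : Set H) := by
      rw [mem_centralizer_iff]
      intro k hk
      have h9 := h3 k hk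
      calc k * ((e.symm x : H)⁻¹ * s) = (e.symm x : H)⁻¹ * ((e.symm x : H) * k * (e.symm x : H)⁻¹) * s := by group
        _ = (e.symm x : H)⁻¹ * (s * k * s⁻¹) * s := by rw [h9]
        _ = (e.symm x : H)⁻¹ * s * k := by group
    rw [hc, mem_bot, inv_mul_eq_one] at h8
    rw [← h8]
    exact (e.symm x).2
  exact main' hchar NF (topEquiv.trans e.symm) Sy hSy Z C Q hZ hCloc hCmax hNZ hQ P hSP hPmin hPchar hPC Pstar hPstar

def topE {G : Type u} [Group G] {L : Type v} [Group L] (e : L ≃* G) : ↥(⊤ : Subgroup G) ≃* ↥(⊤ : Subgroup L) :=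
  (topEquiv (G := G)).trans (e.symm.trans (topEquiv (G := L)).symm)

/-- the coordinates of `²F₄(2)` -/
theorem exists_full_two : ∃ (φ : ZMod 2 →+* ZMod 2) (S : Full φ ↥(twistedF4 (ZMod 2) 1)), S.R.p = 2 := by
  have hK : Fintype.card (ZMod 2) = 2 ^ (2 * 0 + 1) := by rw [ZMod.card]; rfl
  obtain ⟨φ, hφ⟩ := Cfsg.Agent.ChevalleyStructure.TwF4.TwistedFix.exists_rln hK
  have h0 : ∃ S : Full φ ↥(twistedF4 (ZMod 2) (2 ^ 0)), S.R.p = 2 :=
    ⟨Cfsg.Agent.KFacts.TwF4.Inst.full hK hφ, rfl⟩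
  rw [pow_zero] at h0
  exact ⟨φ, h0⟩

theorem two_comm : Two (ZMod 2) (commutator ↥(twistedF4 (ZMod 2) 1)) := by
  refine ⟨?_, le_rfl, ?_⟩
  · intro x
    fin_cases x
    · exact Or.inl rfl
    · exact Or.inr rfl
  · intro h1
    have hidx := Cfsg.Agent.S1074.result.1
    rw [h1, Subgroup.index_top] at hidx
    norm_num at hidx

/-- a group with a normal subgroup of index two isomorphic to the Tits group and trivial centralizer is `²F₄(2)` -/
theorem equiv_two {G : Type u} [Group G] [Finite G] (D : Cfsg.Agent.TitsK.TData G) (K : Subgroup H) [K.Normal]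
    (he : Nonempty (↥K ≃* ↥D.T)) (hc : centralizer (K : Set H) = ⊥) (h2 : K.index = 2) : Nonempty (H ≃* ↥D.H) := by
  obtain ⟨Φ, hinj, hH⟩ := D.exists_embed K he hc
  obtain ⟨e⟩ := he
  let Ψ : H →* D.H := Φ.codRestrict D.H hH
  have hΨ : Function.Injective Ψ := fun x y hxy => hinj (congrArg Subtype.val hxy)
  have h3 : Nat.card ↥D.T * 2 = Nat.card ↥D.H := by
    rw [← D.relIndex_T, ← Nat.card_congr (Subgroup.subgroupOfEquivOfLe D.T_le).toEquiv]
    exact (D.T.subgroupOf D.H).card_mul_index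
  have h4 : Nat.card H = Nat.card D.H := by
    rw [← h3, ← K.card_mul_index, h2, Nat.card_congr e.toEquiv]
  exact ⟨MulEquiv.ofBijective Ψ ((Nat.bijective_iff_injective_and_card Ψ).2 ⟨hΨ, h4⟩)⟩

theorem equiv_of_map {G L : Type*} [Group G] [Group L] (f : G →* L) (hf : Function.Injective f) (A : Subgroup G)
    (B : Subgroup L) (h : A.map f = B) : Nonempty (↥A ≃* ↥B) := by
  subst h
  exact ⟨A.equivMapOfInjective f hf⟩

theorem equiv_twF4 (K : Subgroup H) [K.Normal] (hK : Lie.IsoTits ↥K) (hc : centralizer (K : Set H) = ⊥)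
    (h2 : K.index = 2) : Nonempty (H ≃* ↥(twistedF4 (ZMod 2) 1)) := by
  obtain ⟨f⟩ := hK
  obtain ⟨e⟩ := Cfsg.Agent.TitsK.exists_equiv
  obtain ⟨g⟩ := equiv_two Cfsg.Agent.TitsK.tdata K ⟨f.trans e⟩ hc h2
  obtain ⟨g'⟩ := equiv_of_map _ (Subgroup.subtype_injective _) _ _ Cfsg.Agent.TitsK.map_HT
  exact ⟨MulEquiv.trans g g'⟩

/-- **rows `²F₄(2)'` and `²F₄(2)`** -/
theorem row_tits {K : Subgroup H} [hKn : K.Normal] (hK : Lie.IsoTits ↥K) (hc : centralizer (K : Set H) = ⊥) (Sy : Sylow 2 H)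
    (Z C Q : Subgroup H)
    (hZ : Z = omegaOne 2 ((Sy : Subgroup H) ⊓ centralizer ((Sy : Subgroup H) : Set H)))
    (hCloc : ∃ T : Subgroup H, IsPGroup 2 ↥T ∧ T ≠ ⊥ ∧ C = normalizer (T : Set H))
    (hCmax : ∀ L : Subgroup H, (∃ T : Subgroup H, IsPGroup 2 ↥T ∧ T ≠ ⊥ ∧ L = normalizer (T : Set H)) → C ≤ L → L = C)
    (hNZ : normalizer (Z : Set H) ≤ C) (hQ : Q = (pCore 2 ↥C).map C.subtype)
    (P : Subgroup H) (hSP : (Sy : Subgroup H) ≤ P) (hPmin : IsPMinimal 2 ↥P)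
    (hPchar : centralizer (((pCore 2 ↥P).map P.subtype : Subgroup H) : Set H) ≤ (pCore 2 ↥P).map P.subtype)
    (hPC : ¬ P ≤ C) (Pstar : Subgroup H)
    (hPstar : Pstar = (normalClosure ((Q.subgroupOf P : Subgroup ↥P) : Set ↥P)).map P.subtype ⊔
      (pCore 2 ↥P).map P.subtype) :
    (∃ (F : Type) (_ : Field F) (_ : Fintype F), ringChar F = 2 ∧
       IsNaturalSL2Module F (largestPReducedOf 2 P) Pstar ∧
       Pstar ⊓ centralizer (largestPReducedOf 2 P : Set H) = (pCore 2 ↥P).map P.subtype) ∧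
    omegaOne 2 (((Sy : Subgroup H) ⊓ Pstar) ⊓ centralizer (((Sy : Subgroup H) ⊓ Pstar : Subgroup H) : Set H)) ≤ C ∧
    ((omegaOne 2 (((Sy : Subgroup H) ⊓ Pstar) ⊓ centralizer (((Sy : Subgroup H) ⊓ Pstar : Subgroup H) : Set H))).subgroupOf C).Normal ∧
    ∀ M : Subgroup H, M < P → (Sy : Subgroup H) ≤ M → (∀ M' : Subgroup H, M ≤ M' → M' < P → M' = M) → M = P ⊓ C := by
  have hfact : Fact (Nat.Prime 2) := ⟨Nat.prime_two⟩
  obtain ⟨hidx, -, -, hcard⟩ := Cfsg.Agent.S1074.result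
  obtain ⟨φ, S, hR⟩ := exists_full_two
  have hchar : ringChar (ZMod 2) = 2 := ZMod.ringChar_zmod_n 2
  have h2 : IsPGroup 2 ↥(J S.XZ 1 8) := isPGroup_J S.zsys8 (two_X S hR) 8 1 8 (by norm_num) (by norm_num)
  obtain ⟨m, hm⟩ : ∃ m : ℕ, m = 3 ^ 3 * 5 ^ 2 * 13 := ⟨_, rfl⟩
  have hodd : Odd m := ⟨4387, by rw [hm]; norm_num⟩
  have hc2 : Nat.card ↥(commutator ↥(twistedF4 (ZMod 2) 1)) = 2 ^ 11 * m := by
    rw [hm, ← mul_assoc, ← mul_assoc]
    exact hcard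
  have hle := Cfsg.Agent.TitsK.index_le hK K ⟨MulEquiv.refl _⟩ hc
  have hpos : K.index ≠ 0 := K.index_ne_zero_of_finite
  rcases (show K.index = 1 ∨ K.index = 2 by omega) with h1 | h1
  · obtain ⟨e⟩ := hK
    have hSy : (Sy : Subgroup H) ≤ K := by
      rw [Subgroup.index_eq_one.1 h1]
      exact le_top
    exact main' hchar (nfacts_tits S two_comm h2 hidx hodd hc2) e.symm Sy hSy Z C Q hZ hCloc hCmax hNZ hQ P hSP hPmin
      hPchar hPC Pstar hPstar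
  · obtain ⟨e⟩ := equiv_twF4 K hK hc h1
    have h3 : Nat.card ↥(twistedF4 (ZMod 2) 1) = 2 ^ 12 * m := by
      rw [← (commutator ↥(twistedF4 (ZMod 2) 1)).card_mul_index, hidx, hc2]
      ring
    have h4 : (J S.XZ 1 8).index = m := by
      have h5 := (J S.XZ 1 8).card_mul_index
      rw [two_card_U S two_comm, h3] at h5
      exact Nat.eq_of_mul_eq_mul_left (by norm_num) h5
    have hsyl : ¬ 2 ∣ (J S.XZ 1 8).index := by
      rw [h4]
      exact hodd.not_two_dvd_nat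
    exact main' (K := ⊤) hchar (nfacts_top S h2 hsyl) (topE e) Sy le_top Z C Q hZ hCloc hCmax hNZ hQ P hSP hPmin
      hPchar hPC Pstar hPstar

/-- row `²F₄(q)` from `CaseB` -/
theorem caseB_twF4 {Sy : Sylow 2 H} {C Q P V W : Subgroup H} (h : Cfsg.Agent.H271.PU.CaseB 2 Sy C Q P V W) {K : Subgroup H} [K.Normal]
    (hK : Lie.Iso2F4 ↥K) (hc : centralizer (K : Set H) = ⊥) {Pstar : Subgroup H}
    (hPstar : Pstar = (normalClosure ((Q.subgroupOf P : Subgroup ↥P) : Set ↥P)).map P.subtype ⊔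
      (pCore 2 ↥P).map P.subtype) :
    (∃ (F : Type) (_ : Field F) (_ : Fintype F), ringChar F = 2 ∧
       IsNaturalSL2Module F (largestPReducedOf 2 P) Pstar ∧
       Pstar ⊓ centralizer (largestPReducedOf 2 P : Set H) = (pCore 2 ↥P).map P.subtype) ∧
    omegaOne 2 (((Sy : Subgroup H) ⊓ Pstar) ⊓ centralizer (((Sy : Subgroup H) ⊓ Pstar : Subgroup H) : Set H)) ≤ C ∧
    ((omegaOne 2 (((Sy : Subgroup H) ⊓ Pstar) ⊓ centralizer (((Sy : Subgroup H) ⊓ Pstar : Subgroup H) : Set H))).subgroupOf C).Normal ∧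
    ∀ M : Subgroup H, M < P → (Sy : Subgroup H) ≤ M → (∀ M' : Subgroup H, M ≤ M' → M' < P → M' = M) → M = P ⊓ C :=
  row_twF4 hK hc Sy _ C Q rfl h.Cloc h.Cmax h.NZ h.Qeq P h.SP h.Pmin h.Pchar h.PC Pstar hPstar

/-- rows `²F₄(2)'`, `²F₄(2)` from `CaseB` -/
theorem caseB_tits {Sy : Sylow 2 H} {C Q P V W : Subgroup H} (h : Cfsg.Agent.H271.PU.CaseB 2 Sy C Q P V W) {K : Subgroup H} [K.Normal]
    (hK : Lie.IsoTits ↥K) (hc : centralizer (K : Set H) = ⊥) {Pstar : Subgroup H}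
    (hPstar : Pstar = (normalClosure ((Q.subgroupOf P : Subgroup ↥P) : Set ↥P)).map P.subtype ⊔
      (pCore 2 ↥P).map P.subtype) :
    (∃ (F : Type) (_ : Field F) (_ : Fintype F), ringChar F = 2 ∧
       IsNaturalSL2Module F (largestPReducedOf 2 P) Pstar ∧
       Pstar ⊓ centralizer (largestPReducedOf 2 P : Set H) = (pCore 2 ↥P).map P.subtype) ∧
    omegaOne 2 (((Sy : Subgroup H) ⊓ Pstar) ⊓ centralizer (((Sy : Subgroup H) ⊓ Pstar : Subgroup H) : Set H)) ≤ C ∧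
    ((omegaOne 2 (((Sy : Subgroup H) ⊓ Pstar) ⊓ centralizer (((Sy : Subgroup H) ⊓ Pstar : Subgroup H) : Set H))).subgroupOf C).Normal ∧
    ∀ M : Subgroup H, M < P → (Sy : Subgroup H) ≤ M → (∀ M' : Subgroup H, M ≤ M' → M' < P → M' = M) → M = P ⊓ C :=
  row_tits hK hc Sy _ C Q rfl h.Cloc h.Cmax h.NZ h.Qeq P h.SP h.Pmin h.Pchar h.PC Pstar hPstar

/-- row `²F₄(q)` from `Hyp` -/
theorem hyp_twF4 {Sy : Sylow 2 H} {C Q P : Subgroup H} (h : Cfsg.Agent.H271.PU.Hyp 2 Sy C Q P) {K : Subgroup H} [K.Normal]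
    (hK : Lie.Iso2F4 ↥K) (hc : centralizer (K : Set H) = ⊥) {Pstar : Subgroup H}
    (hPstar : Pstar = (normalClosure ((Q.subgroupOf P : Subgroup ↥P) : Set ↥P)).map P.subtype ⊔
      (pCore 2 ↥P).map P.subtype) :
    (∃ (F : Type) (_ : Field F) (_ : Fintype F), ringChar F = 2 ∧
       IsNaturalSL2Module F (largestPReducedOf 2 P) Pstar ∧
       Pstar ⊓ centralizer (largestPReducedOf 2 P : Set H) = (pCore 2 ↥P).map P.subtype) ∧
    omegaOne 2 (((Sy : Subgroup H) ⊓ Pstar) ⊓ centralizer (((Sy : Subgroup H) ⊓ Pstar : Subgroup H) : Set H)) ≤ C ∧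
    ((omegaOne 2 (((Sy : Subgroup H) ⊓ Pstar) ⊓ centralizer (((Sy : Subgroup H) ⊓ Pstar : Subgroup H) : Set H))).subgroupOf C).Normal ∧
    ∀ M : Subgroup H, M < P → (Sy : Subgroup H) ≤ M → (∀ M' : Subgroup H, M ≤ M' → M' < P → M' = M) → M = P ⊓ C :=
  row_twF4 hK hc Sy _ C Q rfl h.Cloc h.Cmax h.NZ h.Qeq P h.SP h.Pmin h.Pchar h.PC Pstar hPstar

/-- rows `²F₄(2)'`, `²F₄(2)` from `Hyp` -/
theorem hyp_tits {Sy : Sylow 2 H} {C Q P : Subgroup H} (h : Cfsg.Agent.H271.PU.Hyp 2 Sy C Q P) {K : Subgroup H} [K.Normal]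
    (hK : Lie.IsoTits ↥K) (hc : centralizer (K : Set H) = ⊥) {Pstar : Subgroup H}
    (hPstar : Pstar = (normalClosure ((Q.subgroupOf P : Subgroup ↥P) : Set ↥P)).map P.subtype ⊔
      (pCore 2 ↥P).map P.subtype) :
    (∃ (F : Type) (_ : Field F) (_ : Fintype F), ringChar F = 2 ∧
       IsNaturalSL2Module F (largestPReducedOf 2 P) Pstar ∧
       Pstar ⊓ centralizer (largestPReducedOf 2 P : Set H) = (pCore 2 ↥P).map P.subtype) ∧
    omegaOne 2 (((Sy : Subgroup H) ⊓ Pstar) ⊓ centralizer (((Sy : Subgroup H) ⊓ Pstar : Subgroup H) : Set H)) ≤ C ∧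
    ((omegaOne 2 (((Sy : Subgroup H) ⊓ Pstar) ⊓ centralizer (((Sy : Subgroup H) ⊓ Pstar : Subgroup H) : Set H))).subgroupOf C).Normal ∧
    ∀ M : Subgroup H, M < P → (Sy : Subgroup H) ≤ M → (∀ M' : Subgroup H, M ≤ M' → M' < P → M' = M) → M = P ⊓ C :=
  row_tits hK hc Sy _ C Q rfl h.Cloc h.Cmax h.NZ h.Qeq P h.SP h.Pmin h.Pchar h.PC Pstar hPstar

end rows

end Cfsg.Agent.H371.PU
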