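import Cfsg.Agent.H248.TitsDich
import Cfsg.Agent.H933.TitsBN
import Cfsg.Agent.H127.TwFInv
import Cfsg.Agent.KFacts.TwF4.CentR
import Cfsg.Agent.KFacts.TwF4.Irr

/-!
# S3046, row `²F₄`: facts about `U = J 1 8` in a group of type `²F₄` (helper371)
-/

set_option autoImplicit false
set_option linter.unusedSectionVars false

namespace Cfsg.Agent.H371.PU

open Cfsg.Agent.KFacts.TwF4 Cfsg.Agent.KFacts.TwF4.Full Cfsg.Agent.KFacts.TwF4.Arc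
open Cfsg.Agent.KFacts.TwF4.Inv Cfsg.Agent.KFacts.TwF4.SylU Cfsg.Agent.KFacts.TwF4.Irr
open Cfsg.Agent.SplitTwo Cfsg.Agent.SplitTwo.ZS Cfsg.Agent.TitsThree.RankTwoZ
open Cfsg.Agent.SplitTwo.RootSysZ Subgroup Cfsg Cfsg.Lie Cfsg.Agent.H248.TwF4Over
open scoped commutatorElement

universe u

variable {F : Type*} [Field F] {σ : F →+* F} {G : Type u} [Group G] (S : Full σ G)

theorem J28_of_n1 {x : G} (hx : x ∈ J S.XZ 1 8) (h : S.n1 * x * S.n1⁻¹ ∈ J S.XZ 1 8) : x ∈ J S.XZ 2 8 := by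
  obtain ⟨a, ha, y, hy, rfl⟩ := S.zsys8.split_ll (a := 1) (b := 8) (by norm_num) (by norm_num) hx
  have h1 : S.n1 * y * S.n1⁻¹ ∈ J S.XZ 2 8 := S.n1_refl.mem_J hy (by norm_num) (by norm_num)
  have h2 : S.n1 * a * S.n1⁻¹ ∈ S.XZ 9 := S.n1_refl.mem' ha (by norm_num)
  have h3 : S.n1 * a * S.n1⁻¹ ∈ J S.XZ 1 8 := by
    have e : S.n1 * a * S.n1⁻¹ = (S.n1 * (a * y) * S.n1⁻¹) * (S.n1 * y * S.n1⁻¹)⁻¹ := by group
    rw [e]
    exact mul_mem h (inv_mem (J_mono (by norm_num) le_rfl h1))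
  have h4 := H127.TwFInv.X9_inf_U S h2 h3
  have h5 : a = 1 := by
    have e : a = S.n1⁻¹ * (S.n1 * a * S.n1⁻¹) * S.n1 := by group
    rw [e, h4]; group
  rw [h5, one_mul]
  exact hy

theorem J17_of_n2 {x : G} (hx : x ∈ J S.XZ 1 8) (h : S.n2 * x * S.n2⁻¹ ∈ J S.XZ 1 8) : x ∈ J S.XZ 1 7 := by
  obtain ⟨a, ha, y, hy, rfl⟩ := S.zsys8.split_rl (a := 1) (b := 8) (by norm_num) (by norm_num) hx
  have h1 : S.n2 * y * S.n2⁻¹ ∈ J S.XZ 1 7 := S.n2_refl.mem_J hy (by norm_num) (by norm_num)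
  have h2 : S.n2 * a * S.n2⁻¹ ∈ S.XZ 0 := S.n2_refl.mem' ha (by norm_num)
  have h3 : S.n2 * a * S.n2⁻¹ ∈ J S.XZ 1 8 := by
    have e : S.n2 * a * S.n2⁻¹ = (S.n2 * (a * y) * S.n2⁻¹) * (S.n2 * y * S.n2⁻¹)⁻¹ := by group
    rw [e]
    exact mul_mem h (inv_mem (J_mono le_rfl (by norm_num) h1))
  have h4 := H127.TwFInv.X0_inf_BT S h2 (mem_sup_left h3)
  have h5 : a = 1 := by
    have e : a = S.n2⁻¹ * (S.n2 * a * S.n2⁻¹) * S.n2 := by group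
    rw [e, h4]; group
  rw [h5, one_mul]
  exact hy

/-- no nontrivial subgroup of `U` is normalised by `n1` and `n2` -/
theorem bot_of_inv {R : Subgroup G} (hR : R ≤ J S.XZ 1 8) (h1 : ∀ x ∈ R, S.n1 * x * S.n1⁻¹ ∈ R)
    (h2 : ∀ x ∈ R, S.n2 * x * S.n2⁻¹ ∈ R) : R = ⊥ := by
  have Z := S.zsys8
  have a1 : ∀ x ∈ R, x ∈ J S.XZ 2 8 := fun x hx => J28_of_n1 S (hR hx) (hR (h1 x hx))
  have a2 : ∀ x ∈ R, x ∈ J S.XZ 1 7 := fun x hx => J17_of_n2 S (hR hx) (hR (h2 x hx))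
  have a3 : ∀ x ∈ R, x ∈ J S.XZ 2 7 := fun x hx =>
    Z.inter_J 1 (a1 x hx) (a2 x hx) (by norm_num) (by norm_num) (by norm_num) (by norm_num) (Or.inl le_rfl) (Or.inr le_rfl)
  have c1 : ∀ {a b a' b' : ℤ}, (∀ x ∈ R, x ∈ J S.XZ a b) → a' = 10 - b → b' = 10 - a → ∀ x ∈ R, x ∈ J S.XZ a' b' := by
    intro a b a' b' h e1 e2 x hx
    have h3 := S.n1_refl.mem_J (h _ (h1 x hx)) (a' := a') (b' := b') (by omega) (by omega)
    have e : S.n1 * (S.n1 * x * S.n1⁻¹) * S.n1⁻¹ = x := by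
      have h4 : S.n1⁻¹ = S.n1 := inv_eq_of_mul_eq_one_left S.n1_sq
      calc S.n1 * (S.n1 * x * S.n1⁻¹) * S.n1⁻¹ = (S.n1 * S.n1) * x * (S.n1 * S.n1)⁻¹ := by group
        _ = x := by rw [S.n1_sq]; group
    rwa [e] at h3
  have c2 : ∀ {a b a' b' : ℤ}, (∀ x ∈ R, x ∈ J S.XZ a b) → a' = 8 - b → b' = 8 - a → ∀ x ∈ R, x ∈ J S.XZ a' b' := by
    intro a b a' b' h e1 e2 x hx
    have h3 := S.n2_refl.mem_J (h _ (h2 x hx)) (a' := a') (b' := b') (by omega) (by omega)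
    have e : S.n2 * (S.n2 * x * S.n2⁻¹) * S.n2⁻¹ = x := by
      calc S.n2 * (S.n2 * x * S.n2⁻¹) * S.n2⁻¹ = (S.n2 * S.n2) * x * (S.n2 * S.n2)⁻¹ := by group
        _ = x := by rw [S.n2_sq]; group
    rwa [e] at h3
  have a4 : ∀ x ∈ R, x ∈ J S.XZ 3 8 := c1 a3 (by norm_num) (by norm_num)
  have a5 : ∀ x ∈ R, x ∈ J S.XZ 1 5 := c2 (fun x hx => Z.inter_J 1 (e := 3) (f := 7) (a4 x hx) (a2 x hx) (by norm_num)
    (by norm_num) (by norm_num) (by norm_num) (Or.inl le_rfl) (Or.inr le_rfl)) (by norm_num) (by norm_num)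
  have a6 : ∀ x ∈ R, x ∈ J S.XZ 5 7 := c1 (fun x hx => Z.inter_J 1 (e := 3) (f := 5) (a4 x hx) (a5 x hx) (by norm_num)
    (by norm_num) (by norm_num) (by norm_num) (Or.inl le_rfl) (Or.inr le_rfl)) (by norm_num) (by norm_num)
  have a7 : ∀ x ∈ R, x ∈ J S.XZ 1 3 := c2 a6 (by norm_num) (by norm_num)
  rw [eq_bot_iff]
  intro x hx
  exact Z.inter_one 1 (a6 x hx) (a7 x hx) (by norm_num) (by norm_num) (by norm_num) (by norm_num) (Or.inr (by norm_num))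

/-- the facts about a normal subgroup `N` used in the row -/
structure NFacts (N : Subgroup G) : Prop where
  cond : Cond S N
  o_mem : ∀ a t, S.o a t ∈ N
  z_mem : ∀ a u, S.e a 0 u ∈ N
  two : IsPGroup 2 (J S.XZ 1 8)
  c17 : ∀ y ∈ N, (∀ x ∈ J S.XZ 1 7 ⊓ N, y * x = x * y) → y ∈ S.Zc 2
  c28 : ∀ y ∈ N, (∀ x ∈ J S.XZ 2 8 ⊓ N, y * x = x * y) → y ∈ S.W46
  j19 : J S.XZ 1 9 ⊓ N ≤ (J S.XZ 1 8 ⊓ N) ⊔ (S.XZ 9 ⊓ N)
  syl : ¬ 2 ∣ ((J S.XZ 1 8).subgroupOf N).index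

theorem j19_top : J S.XZ 1 9 ⊓ ⊤ ≤ (J S.XZ 1 8 ⊓ ⊤) ⊔ (S.XZ 9 ⊓ ⊤) := by
  rw [inf_top_eq, inf_top_eq, inf_top_eq]
  refine J_le fun k h1 h2 => ?_
  rcases eq_or_lt_of_le h2 with rfl | h3
  · exact le_sup_right
  · exact le_trans (X_le_J h1 (by omega)) le_sup_left

theorem nfacts_top [Finite G] (h2 : IsPGroup 2 (J S.XZ 1 8)) (hsyl : ¬ 2 ∣ (J S.XZ 1 8).index) : NFacts S ⊤ where
  cond := cond_top S
  o_mem := fun _ _ => mem_top _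
  z_mem := fun _ _ => mem_top _
  two := h2
  c17 := by
    intro y _ h
    rw [← S.centralizer_Q, mem_centralizer_iff]
    intro x hx
    exact (h x ⟨hx, mem_top _⟩).symm
  c28 := by
    intro y _ h
    rw [← S.centralizer_J28, mem_centralizer_iff]
    intro x hx
    exact (h x ⟨hx, mem_top _⟩).symm
  j19 := j19_top S
  syl := by
    show ¬ 2 ∣ (J S.XZ 1 8).relIndex ⊤
    rw [relIndex_top_right]
    exact hsyl

/-! ### the Tits group -/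

section Tits

variable {N : Subgroup G} (T : Two F N)
include T

theorem e1e2_mem {a b : ZMod 8} : S.e a 1 0 * S.e b 1 0 ∈ N := by
  have h : ∀ c : ZMod 8, S.e c 1 0 * (S.e 0 1 0)⁻¹ ∈ N := by
    refine Sys.ind8 (P := fun c => S.e c 1 0 * (S.e 0 1 0)⁻¹ ∈ N) 0 ?_ ?_
    · rw [mul_inv_cancel]; exact one_mem _
    · intro c hc
      have h1 : ⁅S.rot, S.e c 1 0⁆ ∈ N := T.comm (by
        rw [_root_.commutator_def]
        exact commutator_mem_commutator (mem_top _) (mem_top _))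
      have e : S.e (c + 1) 1 0 * (S.e 0 1 0)⁻¹ = ⁅S.rot, S.e c 1 0⁆ * (S.e c 1 0 * (S.e 0 1 0)⁻¹) := by
        rw [← S.rot_e, commutatorElement_def]; group
      rw [e]
      exact mul_mem h1 hc
  have h1 := h a
  have h2 := h b
  have h3 : S.e 0 1 0 * S.e 0 1 0 ∈ N := by
    rw [two_sq S T]
    exact two_e0_mem S T 0 1
  have e : S.e a 1 0 * S.e b 1 0 = (S.e a 1 0 * (S.e 0 1 0)⁻¹) * (S.e 0 1 0 * (S.e b 1 0 * (S.e 0 1 0)⁻¹) * (S.e 0 1 0)⁻¹) *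
      (S.e 0 1 0 * S.e 0 1 0) := by group
  rw [e]
  exact mul_mem (mul_mem h1 (conj_mem_of_comm T.comm _ h2)) h3

/-- the common part of `c17` and `c28` -/
theorem q2_of {y : G} (hy : y ∈ N) (h : ∀ x ∈ S.Q2, y * x = x * y) : ∃ u s z t w, y = q2 S u s z t w := by
  have h1 : y ∈ S.Q1 := by
    rw [← S.centralizer_Q2, mem_centralizer_iff]
    intro x hx
    exact (h x hx).symm
  obtain ⟨a, ha, b, hb, rfl⟩ := mem_sup_of_norm (A := S.XZ 4) (B := S.Q2) (by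
    intro a ha b hb
    have h2 : a ∈ S.PL := X_le_J (by norm_num) (by norm_num) ha
    exact (mem_normalizer_iff.1 (S.Q2_norm h2) b).1 hb) h1
  obtain ⟨p, v, rfl⟩ := (mem_X4 S).1 ha
  have hbN : b ∈ N := S.Q2_le (K := N) (fun u => two_e0_mem S T 1 u) (fun t => two_o_mem S T 1 t)
    (fun u => two_e0_mem S T 2 u) (fun t => two_o_mem S T 2 t) (fun u => two_e0_mem S T 3 u) hb
  have hp : p = 0 := (two_mem_iff S T 2 p v).1 (by
    have := mul_mem hy (inv_mem hbN)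
    rwa [mul_inv_cancel_right] at this)
  subst hp
  have h3 : S.e 2 0 v * b ∈ S.Q2 := mul_mem (S.q2_3 v) hb
  obtain ⟨u, s, z, t, w, e⟩ := (mem_Q2 S).1 h3
  exact ⟨u, s, z, t, w, e.symm⟩

omit T in
theorem dl_of' {g x r : G} (h : g * x = x * g * r) : dl g x = r⁻¹ := by
  unfold dl
  have e : x * g = g * x * r⁻¹ := by rw [h]; group
  calc x⁻¹ * (g⁻¹ * x * g) = x⁻¹ * g⁻¹ * (x * g) := by group
    _ = r⁻¹ := by rw [e]; group

omit T in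
theorem dl_one_of {g x : G} (h : x * g = g * x) : dl g x = 1 := dl_of (by rw [h, mul_one])

omit T in
theorem dl_q2 {g : G} (hg : g ∈ S.PL) (u s z t w : F) : dl g (q2 S u s z t w) =
    dl g (S.e 1 0 u) * dl g (S.o 1 s) * dl g (S.e 2 0 z) * dl g (S.o 2 t) * dl g (S.e 3 0 w) := by
  unfold q2
  have m1 := S.q2_1 u
  have m2 := S.q2_2 s
  have m3 := S.q2_3 z
  have m4 := S.q2_4 t
  have m5 := S.q2_5 w
  rw [dl_Q2 S hg (mul_mem (mul_mem (mul_mem m1 m2) m3) m4) m5, dl_Q2 S hg (mul_mem (mul_mem m1 m2) m3) m4,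
    dl_Q2 S hg (mul_mem m1 m2) m3, dl_Q2 S hg m1 m2]

omit T in
/-- `X_7` -/
theorem u_zero {u s z t w : F} (h : q2 S u s z t w * S.o 3 1 = S.o 3 1 * q2 S u s z t w) : u = 0 := by
  have hg : S.o 3 1 ∈ S.PL := X_le_J (X := S.XZ) (k := 7) (by norm_num) (by norm_num) ((mem_X7 S).2 ⟨1, rfl⟩)
  have h1 := dl_one_of h
  have r1 : S.o 1 s * S.o 3 1 = S.o 3 1 * S.o 1 s := S.o_o2 1 s 1
  have r2 : S.o 2 t * S.o 3 1 = S.o 3 1 * S.o 2 t := S.o_o1 2 t 1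
  have r3 : S.e 1 0 u * S.o 3 1 = S.o 3 1 * S.e 1 0 u * S.e 2 0 u := by
    have := S.e_o2 1 0 u 1
    simp only [map_zero, zero_mul, zero_add, mul_one, S.o_zero, S.e_zero] at this
    exact this
  have r4 : S.e 2 0 z * S.o 3 1 = S.o 3 1 * S.e 2 0 z := by
    have := S.e_o1 2 0 z 1
    simp only [mul_one, S.e_zero] at this
    exact this
  rw [dl_q2 S hg, dl_one_of r1, dl_one_of r2, dl_one_of (S.e_o0 3 0 w 1), dl_of r3, dl_one_of r4] at h1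
  simp only [mul_one] at h1
  exact (S.e_eq_one h1).2

omit T in
/-- `X_1` -/
theorem w_zero {u s z t w : F} (h : q2 S u s z t w * S.o 0 1 = S.o 0 1 * q2 S u s z t w) : w = 0 := by
  have hg : S.o 0 1 ∈ S.PL := X_le_J (X := S.XZ) (k := 1) (by norm_num) (by norm_num) ((mem_X1 S).2 ⟨1, rfl⟩)
  have h1 := dl_one_of h
  have r1 : S.o 0 1 * S.e 1 0 u = S.e 1 0 u * S.o 0 1 := S.o_e1 0 1 0 u
  have r2 : S.o 0 1 * S.o 1 s = S.o 1 s * S.o 0 1 := S.o_o1 0 1 s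
  have r3 : S.o 0 1 * S.o 2 t = S.o 2 t * S.o 0 1 := S.o_o2 0 1 t
  have r4 : S.o 0 1 * S.e 2 0 z = S.e 2 0 z * S.o 0 1 := by
    have := S.o_e2 0 1 0 z
    simp only [mul_zero, S.e_zero, mul_one] at this
    exact this
  have r5 : S.o 0 1 * S.e 3 0 w = S.e 3 0 w * S.o 0 1 * S.e 2 0 w := by
    have := S.o_e3 0 1 0 w
    simp only [map_zero, mul_zero, zero_add, one_mul, mul_one, S.o_zero, S.e_zero] at this
    exact this
  rw [dl_q2 S hg, dl_one_of r1.symm, dl_one_of r2.symm, dl_one_of r3.symm, dl_one_of r4.symm, dl_of' r5] at h1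
  simp only [one_mul, inv_eq_one] at h1
  exact (S.e_eq_one h1).2

omit T in
/-- `Z_8` -/
theorem s_zero {s z t w : F} (h : q2 S 0 s z t w * S.e 4 0 1 = S.e 4 0 1 * q2 S 0 s z t w) : s = 0 := by
  have h1 := dl_one_of h
  rw [dl_01_q2] at h1
  simp only [map_zero, zero_add, S.o_zero, S.e_zero, one_mul] at h1
  exact (S.e_eq_one h1).2

/-- `X_2` -/
theorem t_zero {s z t w : F}
    (h : ∀ a b : ZMod 8, (a = 1 ∧ b = 2) → q2 S 0 s z t w * (S.e a 1 0 * S.e b 1 0) = (S.e a 1 0 * S.e b 1 0) * q2 S 0 s z t w) :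
    t = 0 := by
  have h0 := h 1 2 ⟨rfl, rfl⟩
  have c1 : q2 S 0 s z t w * S.e 2 1 0 = S.e 2 1 0 * q2 S 0 s z t w := by
    have hg : S.e 2 1 0 ∈ S.PL := X_le_J (X := S.XZ) (k := 4) (by norm_num) (by norm_num) ((mem_X4 S).2 ⟨1, 0, rfl⟩)
    have k : S.e 2 1 0 * S.e 2 0 z = S.e 2 0 z * S.e 2 1 0 := by
      rw [S.e_mul, S.e_mul]; simp
    have r1 : S.o 1 s * S.e 2 1 0 = S.e 2 1 0 * S.o 1 s := S.o_e1 1 s 1 0
    have r0 : (1 : G) * S.e 2 1 0 = S.e 2 1 0 * 1 := by rw [mul_one, one_mul]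
    have h1 : dl (S.e 2 1 0) (q2 S 0 s z t w) = 1 := by
      rw [dl_q2 S hg, S.e_zero, dl_one_of r0, dl_one_of r1, dl_one_of k.symm,
        dl_one_of (S.e_o0 2 1 0 t).symm, dl_one_of (S.comm_Z6 (k := 4) (by norm_num) (by norm_num) ((mem_X4 S).2 ⟨1, 0, rfl⟩) w).symm]
      simp
    unfold dl at h1
    rw [inv_mul_eq_one] at h1
    calc q2 S 0 s z t w * S.e 2 1 0 = S.e 2 1 0 * ((S.e 2 1 0)⁻¹ * q2 S 0 s z t w * S.e 2 1 0) := by group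
      _ = _ := by rw [← h1]
  have c2 : q2 S 0 s z t w * S.e 1 1 0 = S.e 1 1 0 * q2 S 0 s z t w := by
    have e1 : q2 S 0 s z t w * S.e 1 1 0 * S.e 2 1 0 = S.e 1 1 0 * q2 S 0 s z t w * S.e 2 1 0 := by
      calc q2 S 0 s z t w * S.e 1 1 0 * S.e 2 1 0 = q2 S 0 s z t w * (S.e 1 1 0 * S.e 2 1 0) := by group
        _ = S.e 1 1 0 * (S.e 2 1 0 * q2 S 0 s z t w) := by rw [h0]; group
        _ = _ := by rw [← c1]; group
    exact mul_right_cancel e1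
  have hg : S.e 1 1 0 ∈ S.PL := X_le_J (X := S.XZ) (k := 2) (by norm_num) (by norm_num) ((mem_X2 S).2 ⟨1, 0, rfl⟩)
  have h1 := dl_one_of c2
  have r0 : (1 : G) * S.e 1 1 0 = S.e 1 1 0 * 1 := by rw [mul_one, one_mul]
  have r1 : S.e 1 1 0 * S.o 2 t = S.o 2 t * S.e 1 1 0 * S.e 2 0 t := by
    have := S.e_o1 1 1 0 t
    rw [one_mul] at this
    exact this
  rw [dl_q2 S hg, S.e_zero, dl_one_of r0, dl_one_of (S.e_o0 1 1 0 s).symm,
    dl_one_of (S.comm_Z4 (k := 2) (by norm_num) (by norm_num) ((mem_X2 S).2 ⟨1, 0, rfl⟩) z).symm,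
    dl_one_of (S.comm_Z6 (k := 2) (by norm_num) (by norm_num) ((mem_X2 S).2 ⟨1, 0, rfl⟩) w).symm,
    dl_of' r1] at h1
  simp only [one_mul, mul_one, inv_eq_one] at h1
  exact (S.e_eq_one h1).2

/-- `X_6` -/
theorem s_zero' {s z : F}
    (h : q2 S 0 s z 0 0 * (S.e 2 1 0 * S.e 3 1 0) = (S.e 2 1 0 * S.e 3 1 0) * q2 S 0 s z 0 0) : s = 0 := by
  have k : S.e 2 1 0 * S.e 2 0 z = S.e 2 0 z * S.e 2 1 0 := by
    rw [S.e_mul, S.e_mul]; simp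
  have e0 : q2 S 0 s z 0 0 = S.o 1 s * S.e 2 0 z := by
    unfold q2
    rw [S.e_zero, S.o_zero, S.e_zero]; group
  rw [e0] at h
  have r1 : S.o 1 s * S.e 2 1 0 = S.e 2 1 0 * S.o 1 s := S.o_e1 1 s 1 0
  have c1 : S.o 1 s * S.e 2 0 z * S.e 2 1 0 = S.e 2 1 0 * (S.o 1 s * S.e 2 0 z) := by
    rw [mul_assoc, ← k, ← mul_assoc, r1]; group
  have c2 : S.o 1 s * S.e 2 0 z * S.e 3 1 0 = S.e 3 1 0 * (S.o 1 s * S.e 2 0 z) := by
    have e1 : S.e 2 1 0 * (S.o 1 s * S.e 2 0 z * S.e 3 1 0) = S.e 2 1 0 * (S.e 3 1 0 * (S.o 1 s * S.e 2 0 z)) := by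
      rw [← mul_assoc, ← c1, ← mul_assoc, ← h]; group
    exact mul_left_cancel e1
  have r1 := S.comm_Z4 (k := 6) (by norm_num) (by norm_num) ((mem_X6 S).2 ⟨1, 0, rfl⟩) z
  have r2 := S.o_e2 1 s 1 0
  have r3 : S.o 1 s * S.e (1 + 2) 1 0 = S.e 3 1 0 * S.o 1 s := by
    have e1 : S.o 1 s * S.e (1 + 2) 1 0 * S.e 2 0 z = S.e 3 1 0 * S.o 1 s * S.e 2 0 z := by
      calc S.o 1 s * S.e (1 + 2) 1 0 * S.e 2 0 z = S.o 1 s * (S.e 3 1 0 * S.e 2 0 z) := by rw [mul_assoc]; rfl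
        _ = S.o 1 s * S.e 2 0 z * S.e 3 1 0 := by rw [r1]; group
        _ = _ := by rw [c2]; group
    exact mul_right_cancel e1
  rw [r3] at r2
  have r4 : S.e (1 + 1) 0 (s * 1) = 1 := by
    have := r2.symm
    exact mul_eq_left.1 this
  have := (S.e_eq_one r4).2
  rwa [mul_one] at this

theorem nfacts_tits [Finite G] (h2 : IsPGroup 2 (J S.XZ 1 8)) (hidx : N.index = 2) {m : ℕ} (hm : Odd m)
    (hcard : Nat.card N = 2 ^ 11 * m) : NFacts S N where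
  cond := two_cond S T
  o_mem := two_o_mem S T
  z_mem := two_e0_mem S T
  two := h2
  c17 := by
    intro y hy h
    have hQ : S.Q2 ≤ J S.XZ 1 7 ⊓ N := S.Q2_le
      (fun u => ⟨X_le_J (X := S.XZ) (k := 2) (by norm_num) (by norm_num) ((mem_X2 S).2 ⟨0, u, rfl⟩), two_e0_mem S T 1 u⟩)
      (fun t => ⟨X_le_J (X := S.XZ) (k := 3) (by norm_num) (by norm_num) ((mem_X3 S).2 ⟨t, rfl⟩), two_o_mem S T 1 t⟩)
      (fun u => ⟨X_le_J (X := S.XZ) (k := 4) (by norm_num) (by norm_num) ((mem_X4 S).2 ⟨0, u, rfl⟩), two_e0_mem S T 2 u⟩)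
      (fun t => ⟨X_le_J (X := S.XZ) (k := 5) (by norm_num) (by norm_num) ((mem_X5 S).2 ⟨t, rfl⟩), two_o_mem S T 2 t⟩)
      (fun u => ⟨X_le_J (X := S.XZ) (k := 6) (by norm_num) (by norm_num) ((mem_X6 S).2 ⟨0, u, rfl⟩), two_e0_mem S T 3 u⟩)
    obtain ⟨u, s, z, t, w, rfl⟩ := q2_of S T hy fun x hx => h x (hQ hx)
    have hu := u_zero S (h (S.o 3 1) ⟨X_le_J (X := S.XZ) (k := 7) (by norm_num) (by norm_num) ((mem_X7 S).2 ⟨1, rfl⟩),
      two_o_mem S T 3 1⟩)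
    have hw := w_zero S (h (S.o 0 1) ⟨X_le_J (X := S.XZ) (k := 1) (by norm_num) (by norm_num) ((mem_X1 S).2 ⟨1, rfl⟩),
      two_o_mem S T 0 1⟩)
    subst hu hw
    have ht := t_zero S T (s := s) (z := z) (t := t) (w := 0) (by
      rintro _ _ ⟨rfl, rfl⟩
      exact h _ ⟨mul_mem (X_le_J (X := S.XZ) (k := 2) (by norm_num) (by norm_num) ((mem_X2 S).2 ⟨1, 0, rfl⟩))
        (X_le_J (X := S.XZ) (k := 4) (by norm_num) (by norm_num) ((mem_X4 S).2 ⟨1, 0, rfl⟩)), e1e2_mem S T⟩)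
    subst ht
    have hs := s_zero' S T (h _ ⟨mul_mem (X_le_J (X := S.XZ) (k := 4) (by norm_num) (by norm_num) ((mem_X4 S).2 ⟨1, 0, rfl⟩))
        (X_le_J (X := S.XZ) (k := 6) (by norm_num) (by norm_num) ((mem_X6 S).2 ⟨1, 0, rfl⟩)), e1e2_mem S T⟩)
    subst hs
    refine ⟨z, ?_⟩
    unfold q2
    rw [S.e_zero, S.o_zero, S.o_zero, S.e_zero]; group
  c28 := by
    intro y hy h
    have hQ : S.Q2 ≤ J S.XZ 2 8 ⊓ N := S.Q2_le
      (fun u => ⟨X_le_J (X := S.XZ) (k := 2) (by norm_num) (by norm_num) ((mem_X2 S).2 ⟨0, u, rfl⟩), two_e0_mem S T 1 u⟩)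
      (fun t => ⟨X_le_J (X := S.XZ) (k := 3) (by norm_num) (by norm_num) ((mem_X3 S).2 ⟨t, rfl⟩), two_o_mem S T 1 t⟩)
      (fun u => ⟨X_le_J (X := S.XZ) (k := 4) (by norm_num) (by norm_num) ((mem_X4 S).2 ⟨0, u, rfl⟩), two_e0_mem S T 2 u⟩)
      (fun t => ⟨X_le_J (X := S.XZ) (k := 5) (by norm_num) (by norm_num) ((mem_X5 S).2 ⟨t, rfl⟩), two_o_mem S T 2 t⟩)
      (fun u => ⟨X_le_J (X := S.XZ) (k := 6) (by norm_num) (by norm_num) ((mem_X6 S).2 ⟨0, u, rfl⟩), two_e0_mem S T 3 u⟩)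
    obtain ⟨u, s, z, t, w, rfl⟩ := q2_of S T hy fun x hx => h x (hQ hx)
    have hu := u_zero S (h (S.o 3 1) ⟨X_le_J (X := S.XZ) (k := 7) (by norm_num) (by norm_num) ((mem_X7 S).2 ⟨1, rfl⟩),
      two_o_mem S T 3 1⟩)
    subst hu
    have hs := s_zero S (h (S.e 4 0 1) ⟨X_le_J (X := S.XZ) (k := 8) (by norm_num) (by norm_num) ((mem_X8 S).2 ⟨0, 1, rfl⟩),
      two_e0_mem S T 4 1⟩)
    subst hs
    have ht := t_zero S T (s := 0) (z := z) (t := t) (w := w) (by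
      rintro _ _ ⟨rfl, rfl⟩
      exact h _ ⟨mul_mem (X_le_J (X := S.XZ) (k := 2) (by norm_num) (by norm_num) ((mem_X2 S).2 ⟨1, 0, rfl⟩))
        (X_le_J (X := S.XZ) (k := 4) (by norm_num) (by norm_num) ((mem_X4 S).2 ⟨1, 0, rfl⟩)), e1e2_mem S T⟩)
    subst ht
    refine ⟨z, w, ?_⟩
    unfold q2
    rw [S.e_zero, S.o_zero, S.o_zero]; group
  j19 := by
    rintro x ⟨hx, hxN⟩
    set L := (J S.XZ 1 8 ⊓ N) ⊔ (S.XZ 9 ⊓ N) with hL
    have hLN : L ≤ N := sup_le inf_le_right inf_le_right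
    have h1 : x ∈ J S.XZ 1 8 ⊔ L := by
      refine J_le (X := S.XZ) (a := 1) (b := 9) (K := J S.XZ 1 8 ⊔ L) ?_ hx
      intro k h1 h2
      rcases eq_or_lt_of_le h2 with rfl | h3
      · refine le_trans ?_ le_sup_right
        refine le_trans ?_ (le_sup_right : S.XZ 9 ⊓ N ≤ L)
        intro y hy
        obtain ⟨t, rfl⟩ := (mem_X9 S).1 hy
        exact ⟨hy, two_o_mem S T 4 t⟩
      · exact le_trans (X_le_J h1 (by omega)) le_sup_left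
    obtain ⟨u, hu, l, hl, rfl⟩ := mem_sup_of_norm (A := J S.XZ 1 8) (B := L)
      (fun a ha b hb => (two_cond S T).norm1 a ha b hb) h1
    have hu' : u ∈ N := by
      have := N.mul_mem hxN (N.inv_mem (hLN hl))
      rwa [mul_inv_cancel_right] at this
    exact L.mul_mem ((le_sup_left : J S.XZ 1 8 ⊓ N ≤ L) ⟨hu, hu'⟩) hl
  syl := two_index S T hidx hm hcard

end Tits

end Cfsg.Agent.H371.PU
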