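import Cfsg.Agent.H371.PU.Base
import Cfsg.Agent.H273.PMinimal
import Cfsg.Agent.H221.PReduced
import Cfsg.Prelude.Def_LocalStructure
import Cfsg.Prelude.Def_PLocal

/-!
# S3046, row `²F₄`: the two subgroups `C` and `P` (helper371)
-/

set_option autoImplicit false
set_option linter.unusedSectionVars false

namespace Cfsg.Agent.H371.PU

open Cfsg.Agent.KFacts.TwF4 Cfsg.Agent.KFacts.TwF4.Full Cfsg.Agent.KFacts.TwF4.Arc
open Cfsg.Agent.KFacts.TwF4.Inv Cfsg.Agent.KFacts.TwF4.SylU Cfsg.Agent.KFacts.TwF4.Irr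
open Cfsg.Agent.SplitTwo Cfsg.Agent.SplitTwo.ZS Cfsg.Agent.TitsThree.RankTwoZ
open Cfsg.Agent.SplitTwo.RootSysZ Subgroup Cfsg Cfsg.Lie Cfsg.Agent.H248.TwF4Over

universe u v

/-- an isomorphism from `N ≤ G` to `K ≤ H`, as a function on `G` -/
structure Emb {G : Type u} [Group G] {H : Type v} [Group H] (N : Subgroup G) (K : Subgroup H) where
  j : G → H
  mul : ∀ x ∈ N, ∀ y ∈ N, j (x * y) = j x * j y
  inj : ∀ x ∈ N, ∀ y ∈ N, j x = j y → x = y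
  mem : ∀ x ∈ N, j x ∈ K
  surj : ∀ k ∈ K, ∃ x ∈ N, j x = k

section general

variable {H : Type v} [Group H]

theorem mem_norm_of_le [Finite H] {A : Subgroup H} {g : H} (h : ∀ x ∈ A, g * x * g⁻¹ ∈ A) :
    g ∈ normalizer (A : Set H) := by
  rw [mem_normalizer_iff]
  intro x
  refine ⟨h x, fun hx => ?_⟩
  have hinj : Function.Injective (fun y : ↥A => (⟨g * y * g⁻¹, h y y.2⟩ : ↥A)) := by
    intro y z hyz
    have h1 := congrArg Subtype.val hyz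
    apply Subtype.ext
    simpa using h1
  obtain ⟨y, hy⟩ := Finite.surjective_of_injective hinj ⟨g * x * g⁻¹, hx⟩
  have h1 : g * (y : H) * g⁻¹ = g * x * g⁻¹ := congrArg Subtype.val hy
  have h2 : (y : H) = x := by simpa using h1
  rw [← h2]
  exact y.2

theorem le_sylow_of_norm [Finite H] {p : ℕ} [Fact p.Prime] (Sy : Sylow p H) {R M : Subgroup H} (hM : (Sy : Subgroup H) ≤ M)
    (hR : IsPGroup p R) (hRM : R ≤ M) (hn : M ≤ normalizer (R : Set H)) : R ≤ (Sy : Subgroup H) := by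
  have h1 : (R.subgroupOf M).Normal := (normal_subgroupOf_iff_le_normalizer hRM).2 hn
  have h2 : IsPGroup p ↥(R.subgroupOf M) := hR.comap_of_injective M.subtype M.subtype_injective
  have h3 := (Lib.Cores.le_pCore h1 h2).trans (Lib.Cores.pCore_le_sylow (Sy.subtype hM))
  intro x hx
  exact h3 (show (⟨x, hRM hx⟩ : ↥M) ∈ R.subgroupOf M from hx)

theorem pCore_map_le {p : ℕ} (M : Subgroup H) : (pCore p ↥M).map M.subtype ≤ M := map_subtype_le _

theorem pCore_map_isPGroup {p : ℕ} (M : Subgroup H) : IsPGroup p ↥((pCore p ↥M).map M.subtype) :=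
  (Lib.Cores.pCore_isPGroup p).map _

theorem pCore_map_norm {p : ℕ} (M : Subgroup H) : M ≤ normalizer (((pCore p ↥M).map M.subtype : Subgroup H) : Set H) := by
  have h1 : (pCore p ↥M).Normal := Lib.Cores.pCore_normal p
  rw [← normal_subgroupOf_iff_le_normalizer (map_subtype_le _), subgroupOf, comap_map_eq_self_of_injective M.subtype_injective]
  exact h1

theorem le_pCore_map {p : ℕ} {R M : Subgroup H} (hR : IsPGroup p R) (hRM : R ≤ M) (hn : M ≤ normalizer (R : Set H)) :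
    R ≤ (pCore p ↥M).map M.subtype := by
  have h1 : (R.subgroupOf M).Normal := (normal_subgroupOf_iff_le_normalizer hRM).2 hn
  have h2 : IsPGroup p ↥(R.subgroupOf M) := hR.comap_of_injective M.subtype M.subtype_injective
  intro x hx
  exact ⟨⟨x, hRM hx⟩, Lib.Cores.le_pCore h1 h2 hx, rfl⟩

theorem omegaOne_eq {p : ℕ} {A : Subgroup H} (h : ∀ x ∈ A, x ^ p = 1) : omegaOne p A = A := by
  unfold omegaOne
  refine le_antisymm ((closure_le _).2 fun x hx => hx.1) fun x hx => subset_closure ⟨hx, h x hx⟩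

/-- a normal subgroup of a `p`-minimal group containing a Sylow `p`-subgroup is everything -/
theorem le_of_pminimal [Finite H] {p : ℕ} [Fact p.Prime] (Sy : Sylow p H) {P L : Subgroup H} (hSP : (Sy : Subgroup H) ≤ P)
    (hP : IsPMinimal p ↥P) (hSL : (Sy : Subgroup H) ≤ L) (hn : P ≤ normalizer (L : Set H)) : P ≤ L := by
  have h1 : (L.subgroupOf P).Normal := by
    refine ⟨fun x hx g => ?_⟩
    exact (mem_normalizer_iff.1 (hn g.2) x).1 hx
  have hnn := (hP (Sy.subtype hSP)).1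
  rcases H273.PMinimal.dichotomy hP (Sy.subtype hSP) (L.subgroupOf P) with h | ⟨-, h⟩
  · exfalso
    apply hnn
    have e : ((Sy.subtype hSP : Sylow p ↥P) : Subgroup ↥P) ⊓ L.subgroupOf P = (Sy.subtype hSP : Subgroup ↥P) :=
      inf_eq_left.2 fun x hx => hSL hx
    rwa [e] at h
  · have h2 : L.subgroupOf P = ⊤ := by
      rw [← h]
      exact (sup_eq_right.2 fun x hx => hSL hx).symm
    exact subgroupOf_eq_top.1 h2

end general

namespace Emb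

variable {G : Type u} [Group G] {H : Type v} [Group H] {N : Subgroup G} {K : Subgroup H} (E : Emb N K)

theorem one : E.j 1 = 1 := by
  have h := E.mul 1 (one_mem _) 1 (one_mem _)
  rw [mul_one] at h
  exact mul_eq_left.1 h.symm

theorem inv {x : G} (hx : x ∈ N) : E.j x⁻¹ = (E.j x)⁻¹ := by
  have h := E.mul x hx x⁻¹ (inv_mem hx)
  rw [mul_inv_cancel, E.one] at h
  exact (inv_eq_of_mul_eq_one_right h.symm).symm

theorem conj {x y : G} (hx : x ∈ N) (hy : y ∈ N) : E.j (x * y * x⁻¹) = E.j x * E.j y * (E.j x)⁻¹ := by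
  rw [E.mul _ (mul_mem hx hy) _ (inv_mem hx), E.mul _ hx _ hy, E.inv hx]

theorem eq_one {x : G} (hx : x ∈ N) (h : E.j x = 1) : x = 1 := E.inj x hx 1 (one_mem _) (h.trans E.one.symm)

/-- the image of `A ∩ N` -/
def I (A : Subgroup G) : Subgroup H where
  carrier := {h | ∃ x ∈ N, x ∈ A ∧ E.j x = h}
  one_mem' := ⟨1, one_mem _, one_mem _, E.one⟩
  mul_mem' := by
    rintro _ _ ⟨x, hx, hxA, rfl⟩ ⟨y, hy, hyA, rfl⟩
    exact ⟨x * y, mul_mem hx hy, mul_mem hxA hyA, E.mul x hx y hy⟩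
  inv_mem' := by
    rintro _ ⟨x, hx, hxA, rfl⟩
    exact ⟨x⁻¹, inv_mem hx, inv_mem hxA, E.inv hx⟩

theorem mem_I {A : Subgroup G} {h : H} : h ∈ E.I A ↔ ∃ x ∈ N, x ∈ A ∧ E.j x = h := Iff.rfl

theorem j_mem_I {A : Subgroup G} {x : G} (hx : x ∈ N) : E.j x ∈ E.I A ↔ x ∈ A := by
  constructor
  · rintro ⟨y, hy, hyA, h⟩
    rw [← E.inj y hy x hx h]
    exact hyA
  · intro h
    exact ⟨x, hx, h, rfl⟩

theorem I_mono {A B : Subgroup G} (h : A ≤ B) : E.I A ≤ E.I B := by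
  rintro _ ⟨x, hx, hxA, rfl⟩
  exact ⟨x, hx, h hxA, rfl⟩

theorem I_le_K (A : Subgroup G) : E.I A ≤ K := by
  rintro _ ⟨x, hx, hxA, rfl⟩
  exact E.mem x hx

theorem isPGroup_I {p : ℕ} {A : Subgroup G} (hA : IsPGroup p A) : IsPGroup p ↥(E.I A) := by
  rintro ⟨_, x, hx, hxA, rfl⟩
  obtain ⟨k, hk⟩ := hA ⟨x, hxA⟩
  refine ⟨k, Subtype.ext ?_⟩
  have h1 : x ^ p ^ k = 1 := congrArg Subtype.val hk
  have h2 : ∀ n : ℕ, E.j (x ^ n) = E.j x ^ n := by
    intro n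
    induction n with
    | zero => rw [pow_zero, pow_zero, E.one]
    | succ n ih => rw [pow_succ, pow_succ, E.mul _ (pow_mem hx n) _ hx, ih]
  show E.j x ^ p ^ k = 1
  rw [← h2, h1, E.one]

/-- the preimage of `M ∩ K` -/
def Ph (M : Subgroup H) : Subgroup G where
  carrier := {x | x ∈ N ∧ E.j x ∈ M}
  one_mem' := ⟨one_mem _, by rw [E.one]; exact one_mem _⟩
  mul_mem' := by
    rintro x y ⟨hx, hx'⟩ ⟨hy, hy'⟩
    exact ⟨mul_mem hx hy, by rw [E.mul x hx y hy]; exact mul_mem hx' hy'⟩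
  inv_mem' := by
    rintro x ⟨hx, hx'⟩
    exact ⟨inv_mem hx, by rw [E.inv hx]; exact inv_mem hx'⟩

theorem mem_Ph {M : Subgroup H} {x : G} : x ∈ E.Ph M ↔ x ∈ N ∧ E.j x ∈ M := Iff.rfl

end Emb

section local_

variable {F : Type*} [Field F] {σ : F →+* F} {G : Type u} [Group G] {S : Full σ G} {N : Subgroup G}
variable {H : Type v} [Group H] {K : Subgroup H} (NF : NFacts S N) (E : Emb N K)

theorem n1_mem_N (NF : NFacts S N) : S.n1 ∈ N := NF.cond.n1_mem N inf_le_right inf_le_right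
theorem n2_mem_N (NF : NFacts S N) : S.n2 ∈ N := NF.cond.n2_mem N inf_le_right inf_le_right

variable {R : Subgroup H} (hR : R ≤ E.I (J S.XZ 1 8))

include NF hR

theorem le_J28 (h : ∀ x ∈ R, E.j S.n1 * x * (E.j S.n1)⁻¹ ∈ R) : R ≤ E.I (J S.XZ 2 8) := by
  intro r hr
  obtain ⟨x, hx, hxU, rfl⟩ := hR hr
  rw [E.j_mem_I hx]
  refine J28_of_n1 S hxU ?_
  rw [← E.j_mem_I (NF.cond.conj _ x hx), E.conj (n1_mem_N NF) hx]
  exact hR (h _ hr)

theorem le_J17 (h : ∀ x ∈ R, E.j S.n2 * x * (E.j S.n2)⁻¹ ∈ R) : R ≤ E.I (J S.XZ 1 7) := by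
  intro r hr
  obtain ⟨x, hx, hxU, rfl⟩ := hR hr
  rw [E.j_mem_I hx]
  refine J17_of_n2 S hxU ?_
  rw [← E.j_mem_I (NF.cond.conj _ x hx), E.conj (n2_mem_N NF) hx]
  exact hR (h _ hr)

theorem eq_bot_of_both (h1 : ∀ x ∈ R, E.j S.n1 * x * (E.j S.n1)⁻¹ ∈ R) (h2 : ∀ x ∈ R, E.j S.n2 * x * (E.j S.n2)⁻¹ ∈ R) :
    R = ⊥ := by
  have h3 : E.Ph R = ⊥ := by
    refine bot_of_inv S ?_ ?_ ?_
    · rintro x ⟨hx, hxR⟩
      exact (E.j_mem_I hx).1 (hR hxR)
    · rintro x ⟨hx, hxR⟩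
      refine ⟨NF.cond.conj _ x hx, ?_⟩
      rw [E.conj (n1_mem_N NF) hx]
      exact h1 _ hxR
    · rintro x ⟨hx, hxR⟩
      refine ⟨NF.cond.conj _ x hx, ?_⟩
      rw [E.conj (n2_mem_N NF) hx]
      exact h2 _ hxR
  rw [eq_bot_iff]
  intro r hr
  obtain ⟨x, hx, hxU, rfl⟩ := hR hr
  have h4 : x ∈ E.Ph R := ⟨hx, hr⟩
  rw [h3] at h4
  rw [mem_bot.1 h4, E.one]
  exact one_mem _

end local_

section main

variable {F : Type*} [Field F] {σ : F →+* F} {G : Type u} [Group G] [Finite G] {S : Full σ G} {N : Subgroup G}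
variable {H : Type v} [Group H] [Finite H] {K : Subgroup H} (NF : NFacts S N) (E : Emb N K)
  (Sy : Sylow 2 H) (hSy : (Sy : Subgroup H) = E.I (J S.XZ 1 8))

include NF hSy

theorem U_le_Ph {M : Subgroup H} (hM : (Sy : Subgroup H) ≤ M) : J S.XZ 1 8 ⊓ N ≤ E.Ph M := by
  rintro x ⟨hx, hxN⟩
  refine ⟨hxN, hM ?_⟩
  rw [hSy]
  exact ⟨x, hxN, hx, rfl⟩

/-- the centre of `S` -/
theorem center_eq : (Sy : Subgroup H) ⊓ centralizer ((Sy : Subgroup H) : Set H) = E.I (S.Zc 2) := by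
  apply le_antisymm
  · rintro h ⟨h1, h2⟩
    rw [hSy] at h1
    obtain ⟨x, hx, hxU, rfl⟩ := h1
    rw [E.j_mem_I hx]
    refine NF.c17 x hx fun y hy => ?_
    replace h2 : E.j x ∈ centralizer ((Sy : Subgroup H) : Set H) := h2
    rw [mem_centralizer_iff] at h2
    have h3 := h2 (E.j y) (by rw [hSy]; exact ⟨y, hy.2, J_mono le_rfl (by norm_num) hy.1, rfl⟩)
    rw [← E.mul _ hy.2 _ hx, ← E.mul _ hx _ hy.2] at h3
    exact (E.inj _ (mul_mem hy.2 hx) _ (mul_mem hx hy.2) h3).symm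
  · rintro _ ⟨x, hx, hxZ, rfl⟩
    refine ⟨?_, ?_⟩
    · rw [hSy]
      refine ⟨x, hx, ?_, rfl⟩
      obtain ⟨u, rfl⟩ := hxZ
      exact X_le_J (X := S.XZ) (k := 4) (by norm_num) (by norm_num) ((mem_X4 S).2 ⟨0, u, rfl⟩)
    · show E.j x ∈ centralizer ((Sy : Subgroup H) : Set H)
      rw [mem_centralizer_iff]
      intro y hy
      rw [hSy] at hy
      obtain ⟨y, hyN, hyU, rfl⟩ := hy
      rw [← E.mul _ hyN _ hx, ← E.mul _ hx _ hyN, S.comm_PL (J_mono (by norm_num) le_rfl hyU) hxZ]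

omit hSy [Finite G] [Finite H] in
theorem sq_Zc {h : H} (hh : h ∈ E.I (S.Zc 2)) : h ^ 2 = 1 := by
  obtain ⟨_, hx, ⟨u, rfl⟩, rfl⟩ := hh
  rw [pow_two, ← E.mul _ hx _ hx, z_sq, E.one]

theorem Z_eq {Z : Subgroup H} (hZ : Z = omegaOne 2 ((Sy : Subgroup H) ⊓ centralizer ((Sy : Subgroup H) : Set H))) :
    Z = E.I (S.Zc 2) := by
  rw [hZ, center_eq NF E Sy hSy]
  exact omegaOne_eq fun x hx => sq_Zc NF E hx

theorem Sy_le_norm_Z : (Sy : Subgroup H) ≤ normalizer ((E.I (S.Zc 2) : Subgroup H) : Set H) := by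
  rw [← center_eq NF E Sy hSy]
  intro s hs
  have h1 : s ∈ centralizer (((Sy : Subgroup H) ⊓ centralizer ((Sy : Subgroup H) : Set H) : Subgroup H) : Set H) := by
    rw [mem_centralizer_iff]
    rintro z ⟨-, hz⟩
    exact (mem_centralizer_iff.1 hz s hs).symm
  exact centralizer_le_normalizer _ h1

omit hSy in
/-- `n2` does not normalise `J 2 8` -/
theorem n2_not : S.n2 ∉ normalizer (J S.XZ 2 8 : Set G) := by
  intro h
  have he8 : S.e 4 0 1 ∈ S.XZ 8 := (mem_X8 S).2 ⟨0, 1, rfl⟩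
  have h2 := (mem_normalizer_iff.1 h (S.e 4 0 1)).1 (X_le_J (X := S.XZ) (k := 8) (by norm_num) (by norm_num) he8)
  have h3 := H127.TwFInv.X0_inf_BT S (S.n2_refl.mem' he8 (by norm_num))
    (mem_sup_left (J_mono (a := 2) (b := 8) (by norm_num) le_rfl h2))
  have e3 : S.e 4 0 1 = S.n2⁻¹ * (S.n2 * S.e 4 0 1 * S.n2⁻¹) * S.n2 := by group
  have h4 : S.e 4 0 1 = 1 := by
    rw [e3, h3]
    group
  exact one_ne_zero (S.e_eq_one h4).2

theorem over17 {M : Subgroup H} (hM : (Sy : Subgroup H) ≤ M) (h2 : E.j S.n2 ∈ M) (hN : ¬ N ≤ E.Ph M) :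
    E.Ph M ≤ normalizer (J S.XZ 1 7 : Set G) := by
  rcases overgroup NF.cond (U_le_Ph NF E Sy hSy hM) with h | h | h
  · exact absurd h hN
  · exact absurd (h ⟨n2_mem_N NF, h2⟩) (n2_not NF)
  · exact h

/-- if `N ≤ Ph M`, then `O_2(M) = 1` -/
theorem core_bot {M R : Subgroup H} (hM : (Sy : Subgroup H) ≤ M) (hN : N ≤ E.Ph M) (hR : IsPGroup 2 R) (hRM : R ≤ M)
    (hn : M ≤ normalizer (R : Set H)) : R = ⊥ := by
  have h1 : R ≤ E.I (J S.XZ 1 8) := by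
    rw [← hSy]
    exact le_sylow_of_norm Sy hM hR hRM hn
  refine eq_bot_of_both NF E h1 ?_ ?_
  · intro x hx
    exact (mem_normalizer_iff.1 (hn (hN (n1_mem_N NF)).2) x).1 hx
  · intro x hx
    exact (mem_normalizer_iff.1 (hn (hN (n2_mem_N NF)).2) x).1 hx

end main

/-! ### the subgroup `C` -/

section C

variable {F : Type*} [Field F] {σ : F →+* F} {G : Type u} [Group G] [Finite G] {S : Full σ G} {N : Subgroup G}
variable {H : Type v} [Group H] [Finite H] {K : Subgroup H} [K.Normal] (NF : NFacts S N) (E : Emb N K)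
  (Sy : Sylow 2 H) (hSy : (Sy : Subgroup H) = E.I (J S.XZ 1 8)) {C Q : Subgroup H}
  (hCloc : ∃ T : Subgroup H, IsPGroup 2 ↥T ∧ T ≠ ⊥ ∧ C = normalizer (T : Set H))
  (hNZ : normalizer ((E.I (S.Zc 2) : Subgroup H) : Set H) ≤ C)
  (hQ : Q = (pCore 2 ↥C).map C.subtype)

include NF hSy hNZ

theorem Sy_le_C : (Sy : Subgroup H) ≤ C := (Sy_le_norm_Z NF E Sy hSy).trans hNZ

omit hSy in
theorem n2_mem_C : E.j S.n2 ∈ C := by
  apply hNZ
  apply centralizer_le_normalizer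
  rw [mem_centralizer_iff]
  rintro _ ⟨x, hx, hxZ, rfl⟩
  rw [← E.mul _ hx _ (n2_mem_N NF), ← E.mul _ (n2_mem_N NF) _ hx, S.comm_PL S.n2_mem hxZ]

include hCloc in
theorem not_le_C : ¬ N ≤ E.Ph C := by
  intro hN
  obtain ⟨T, hT, hT1, rfl⟩ := hCloc
  apply hT1
  exact core_bot NF E Sy hSy (Sy_le_C NF E Sy hSy hNZ) hN hT le_normalizer le_rfl

include hCloc hQ in
theorem Q_eq : Q = E.I (J S.XZ 1 7) := by
  have hSC := Sy_le_C NF E Sy hSy hNZ
  have hn2 : E.j S.n2 ∈ C := n2_mem_C NF E hNZ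
  have hle : ∀ R : Subgroup H, IsPGroup 2 R → R ≤ C ⊓ K → C ⊓ K ≤ normalizer (R : Set H) → R ≤ E.I (J S.XZ 1 7) := by
    intro R hR hRC hn
    have hSK : (Sy : Subgroup H) ≤ C ⊓ K := le_inf hSC (by rw [hSy]; exact E.I_le_K _)
    refine le_J17 NF E ?_ ?_
    · rw [← hSy]
      exact le_sylow_of_norm Sy hSK hR hRC hn
    · intro x hx
      exact (mem_normalizer_iff.1 (hn ⟨hn2, E.mem _ (n2_mem_N NF)⟩) x).1 hx
  have h17 := over17 NF E Sy hSy hSC hn2 (not_le_C NF E Sy hSy hCloc hNZ)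
  -- `R = I (J 1 7)` is normal in `C ∩ K`
  have hRn : C ⊓ K ≤ normalizer ((E.I (J S.XZ 1 7) : Subgroup H) : Set H) := by
    rintro c ⟨hcC, hcK⟩
    obtain ⟨y, hy, rfl⟩ := E.surj c hcK
    refine mem_norm_of_le ?_
    rintro _ ⟨x, hx, hxJ, rfl⟩
    rw [← E.conj hy hx, E.j_mem_I (NF.cond.conj _ x hx)]
    exact (mem_normalizer_iff.1 (h17 ⟨hy, hcC⟩) x).1 hxJ
  have hR2 : IsPGroup 2 ↥(E.I (J S.XZ 1 7)) := E.isPGroup_I (NF.two.to_le (J_mono le_rfl (by norm_num)))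
  have hRS : E.I (J S.XZ 1 7) ≤ (Sy : Subgroup H) := by
    rw [hSy]
    exact E.I_mono (J_mono le_rfl (by norm_num))
  have hRC : C ≤ normalizer ((E.I (J S.XZ 1 7) : Subgroup H) : Set H) := by
    intro c hc
    refine mem_norm_of_le ?_
    intro r hr
    have h1 := hle ((E.I (J S.XZ 1 7)).map (MulAut.conj c).toMonoidHom) (hR2.map _) ?_ ?_
    · exact h1 ⟨r, hr, rfl⟩
    · rintro _ ⟨x, hx, rfl⟩
      show c * x * c⁻¹ ∈ C ⊓ K
      exact ⟨C.mul_mem (C.mul_mem hc (hSC (hRS hx))) (C.inv_mem hc), Normal.conj_mem inferInstance _ (E.I_le_K _ hx) _⟩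
    · rintro d ⟨hdC, hdK⟩
      refine mem_norm_of_le ?_
      rintro _ ⟨x, hx, rfl⟩
      have h2 : c⁻¹ * d * c ∈ C ⊓ K := by
        refine ⟨C.mul_mem (C.mul_mem (C.inv_mem hc) hdC) hc, ?_⟩
        have := Normal.conj_mem (inferInstance : K.Normal) d hdK c⁻¹
        rwa [inv_inv] at this
      refine ⟨(c⁻¹ * d * c) * x * (c⁻¹ * d * c)⁻¹, (mem_normalizer_iff.1 (hRn h2) x).1 hx, ?_⟩
      show c * ((c⁻¹ * d * c) * x * (c⁻¹ * d * c)⁻¹) * c⁻¹ = d * (c * x * c⁻¹) * d⁻¹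
      group
  apply le_antisymm
  · rw [hQ]
    have hQS : (pCore 2 ↥C).map C.subtype ≤ (Sy : Subgroup H) :=
      le_sylow_of_norm Sy hSC (pCore_map_isPGroup C) (pCore_map_le C) (pCore_map_norm C)
    refine hle _ (pCore_map_isPGroup C) (le_inf (pCore_map_le C) (hQS.trans ?_)) (inf_le_left.trans (pCore_map_norm C))
    rw [hSy]
    exact E.I_le_K _
  · rw [hQ]
    exact le_pCore_map hR2 (hRS.trans hSC) hRC

include hCloc hQ in
/-- `Z` is normal in `C` -/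
theorem C_norm_Z : C ≤ normalizer ((E.I (S.Zc 2) : Subgroup H) : Set H) := by
  have hQe := Q_eq NF E Sy hSy hCloc hNZ hQ
  have hCQ : C ≤ normalizer ((E.I (J S.XZ 1 7) : Subgroup H) : Set H) := by
    rw [← hQe, hQ]
    exact pCore_map_norm C
  have h1 : ∀ h : H, h ∈ E.I (S.Zc 2) ↔ h ∈ E.I (J S.XZ 1 7) ∧ ∀ q ∈ E.I (J S.XZ 1 7), h * q = q * h := by
    intro h
    constructor
    · rintro ⟨x, hx, hxZ, rfl⟩
      refine ⟨⟨x, hx, ?_, rfl⟩, ?_⟩
      · obtain ⟨u, rfl⟩ := hxZ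
        exact X_le_J (X := S.XZ) (k := 4) (by norm_num) (by norm_num) ((mem_X4 S).2 ⟨0, u, rfl⟩)
      · rintro _ ⟨y, hy, hyJ, rfl⟩
        rw [← E.mul _ hy _ hx, ← E.mul _ hx _ hy, S.comm_PL (J_mono (by norm_num) (by norm_num) hyJ) hxZ]
    · rintro ⟨⟨x, hx, hxJ, rfl⟩, h2⟩
      rw [E.j_mem_I hx]
      refine NF.c17 x hx fun y hy => ?_
      have h3 := h2 (E.j y) ⟨y, hy.2, hy.1, rfl⟩
      rw [← E.mul _ hy.2 _ hx, ← E.mul _ hx _ hy.2] at h3
      exact E.inj _ (mul_mem hx hy.2) _ (mul_mem hy.2 hx) h3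
  intro c hc
  refine mem_norm_of_le ?_
  intro z hz
  rw [h1] at hz ⊢
  refine ⟨(mem_normalizer_iff.1 (hCQ hc) z).1 hz.1, ?_⟩
  intro q hq
  have h3 : c⁻¹ * q * c⁻¹⁻¹ ∈ E.I (J S.XZ 1 7) := (mem_normalizer_iff.1 (inv_mem (hCQ hc)) q).1 hq
  have h4 := hz.2 _ h3
  calc c * z * c⁻¹ * q = c * (z * (c⁻¹ * q * c⁻¹⁻¹)) * c⁻¹ := by group
    _ = q * (c * z * c⁻¹) := by rw [h4]; group

include hCloc hQ in
theorem norm_Q_le (hCmax : ∀ L : Subgroup H, (∃ T : Subgroup H, IsPGroup 2 ↥T ∧ T ≠ ⊥ ∧ L = normalizer (T : Set H)) → C ≤ L → L = C) :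
    normalizer ((E.I (J S.XZ 1 7) : Subgroup H) : Set H) ≤ C := by
  have hQe := Q_eq NF E Sy hSy hCloc hNZ hQ
  refine le_of_eq (hCmax _ ⟨E.I (J S.XZ 1 7), E.isPGroup_I (NF.two.to_le (J_mono le_rfl (by norm_num))), ?_, rfl⟩ ?_)
  · intro h
    have h1 : E.j (S.o 1 1) ∈ E.I (J S.XZ 1 7) := ⟨_, NF.o_mem _ _,
      X_le_J (X := S.XZ) (k := 3) (by norm_num) (by norm_num) ((mem_X3 S).2 ⟨1, rfl⟩), rfl⟩
    rw [h, mem_bot] at h1
    exact one_ne_zero (S.o_eq_one (E.eq_one (NF.o_mem _ _) h1))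
  · rw [← hQe, hQ]
    exact pCore_map_norm C

end C

end Cfsg.Agent.H371.PU
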