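import Cfsg.Agent.H371.PU.Loc

/-!
# S3046, row `²F₄`: the subgroup `P`, the natural module, assembly (helper371)
-/

set_option autoImplicit false
set_option linter.unusedSectionVars false

namespace Cfsg.Agent.H371.PU

open Cfsg.Agent.KFacts.TwF4 Cfsg.Agent.KFacts.TwF4.Full Cfsg.Agent.KFacts.TwF4.Arc
open Cfsg.Agent.KFacts.TwF4.Inv Cfsg.Agent.KFacts.TwF4.SylU Cfsg.Agent.KFacts.TwF4.Irr
open Cfsg.Agent.SplitTwo Cfsg.Agent.SplitTwo.ZS Cfsg.Agent.TitsThree.RankTwoZ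
open Cfsg.Agent.SplitTwo.RootSysZ Subgroup Cfsg Cfsg.Lie Cfsg.Agent.H248.TwF4Over
open Cfsg.Agent.H221.PReduced (isPReducedNormal_iff pCore_le_centralizer le_pCore_of_isPReducedNormal)

universe u v

section P

variable {F : Type*} [Field F] {σ : F →+* F} {G : Type u} [Group G] [Finite G] {S : Full σ G} {N : Subgroup G}
variable {H : Type v} [Group H] [Finite H] {K : Subgroup H} (NF : NFacts S N) (E : Emb N K)
  (Sy : Sylow 2 H) (hSy : (Sy : Subgroup H) = E.I (J S.XZ 1 8))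

include NF hSy

/-- `M` normalises `I A` as soon as `Ph M` normalises `A` -/
theorem norm_I {M : Subgroup H} (hMK : M ≤ K) {A : Subgroup G} (h : E.Ph M ≤ normalizer (A : Set G)) :
    M ≤ normalizer ((E.I A : Subgroup H) : Set H) := by
  intro c hc
  obtain ⟨y, hy, rfl⟩ := E.surj c (hMK hc)
  refine mem_norm_of_le ?_
  rintro _ ⟨x, hx, hxJ, rfl⟩
  rw [← E.conj hy hx, E.j_mem_I (NF.cond.conj _ x hx)]
  exact (mem_normalizer_iff.1 (h ⟨hy, hc⟩) x).1 hxJ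

/-- the elements of `M` -/
theorem form {M : Subgroup H} (hM : (Sy : Subgroup H) ≤ M) (hN : ¬ N ≤ E.Ph M)
    (h28 : E.Ph M ≤ normalizer (J S.XZ 2 8 : Set G)) {y : G} (hy : y ∈ E.Ph M) :
    ∃ b ∈ J S.XZ 1 8, ∃ w, (∃ b' ∈ J S.XZ 1 8, y = b * w * b') ∧
      (Maps S.R.X w (fun k => k) ∨ (Maps S.R.X w (fun k => 10 - k) ∧ Pm S N (E.Ph M) 9)) := by
  obtain ⟨b, hb, t, ht, w, hw, b', hb', rfl⟩ := S.bruhat y
  have hg' : b * (t * w) * b' ∈ E.Ph M := by rwa [← mul_assoc]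
  have hU := U_le_Ph NF E Sy hSy hM
  refine ⟨b, hb, t * w, ⟨b', hb', by group⟩, ?_⟩
  rcases types NF.cond hU hb hb' (torus_mul_maps NF.cond ht hw) hg' with h | h | h | ⟨-, h⟩
  · exact absurd h hN
  · exact Or.inl h
  · exact Or.inr h
  · exact absurd (h28 (n2_mem NF.cond hU h)) (n2_not NF)

theorem norm_J19 {M : Subgroup H} (hM : (Sy : Subgroup H) ≤ M) (hN : ¬ N ≤ E.Ph M)
    (h28 : E.Ph M ≤ normalizer (J S.XZ 2 8 : Set G)) : E.Ph M ≤ normalizer (J S.XZ 1 9 : Set G) := by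
  intro y hy
  obtain ⟨b, hb, w, ⟨b', hb', rfl⟩, hw⟩ := form NF E Sy hSy hM hN h28 hy
  refine mem_norm_of_le fun x hx => ?_
  have hU9 : J S.XZ 1 8 ≤ J S.XZ 1 9 := J_mono le_rfl (by norm_num)
  have h1 : ∀ y ∈ J S.XZ 1 9, w * y * w⁻¹ ∈ J S.XZ 1 9 := by
    intro y hy
    rcases hw with h | ⟨h, -⟩
    · exact conj_J_of_maps NF.cond (Or.inl h) hy
    · exact conj_J_of_maps NF.cond (Or.inr (by exact_mod_cast h)) hy
  have h2 := h1 (b' * x * b'⁻¹) (mul_mem (mul_mem (hU9 hb') hx) (inv_mem (hU9 hb')))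
  have h3 := mul_mem (mul_mem (hU9 hb) h2) (inv_mem (hU9 hb))
  have e : b * (w * (b' * x * b'⁻¹) * w⁻¹) * b⁻¹ = b * w * b' * x * (b * w * b')⁻¹ := by group
  rwa [e] at h3

/-- if `X_9` is not in `M`, then `M` normalises `U` and `Z` -/
theorem norm_of_not {M : Subgroup H} (hM : (Sy : Subgroup H) ≤ M) (hN : ¬ N ≤ E.Ph M)
    (h28 : E.Ph M ≤ normalizer (J S.XZ 2 8 : Set G)) (h9 : ¬ Pm S N (E.Ph M) 9) :
    E.Ph M ≤ normalizer (J S.XZ 1 8 : Set G) ∧ E.Ph M ≤ normalizer (S.Zc 2 : Set G) := by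
  constructor
  · intro y hy
    obtain ⟨b, hb, w, ⟨b', hb', rfl⟩, hw⟩ := form NF E Sy hSy hM hN h28 hy
    refine mem_norm_of_le fun x hx => ?_
    have h1 : ∀ y ∈ J S.XZ 1 8, w * y * w⁻¹ ∈ J S.XZ 1 8 := by
      intro y hy
      rcases hw with h | ⟨-, h⟩
      · exact conj_J_of_maps NF.cond (Or.inl h) hy
      · exact absurd h h9
    have h2 := h1 (b' * x * b'⁻¹) (mul_mem (mul_mem hb' hx) (inv_mem hb'))
    have h3 := mul_mem (mul_mem hb h2) (inv_mem hb)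
    have e : b * (w * (b' * x * b'⁻¹) * w⁻¹) * b⁻¹ = b * w * b' * x * (b * w * b')⁻¹ := by group
    rwa [e] at h3
  · intro y hy
    obtain ⟨b, hb, w, ⟨b', hb', rfl⟩, hw⟩ := form NF E Sy hSy hM hN h28 hy
    refine mem_norm_of_le fun x hx => ?_
    have hwT : w ∈ S.T := by
      rcases hw with h | ⟨-, h⟩
      · exact h
      · exact absurd h h9
    have hbP : b ∈ S.PL := J_mono (by norm_num) le_rfl hb
    have hbP' : b' ∈ S.PL := J_mono (by norm_num) le_rfl hb'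
    have e1 : b' * x * b'⁻¹ = x := by rw [S.comm_PL hbP' hx]; group
    have h2 : w * x * w⁻¹ ∈ S.Zc 2 := S.T_conj_Zc hwT hx
    have e2 : b * (w * x * w⁻¹) * b⁻¹ = w * x * w⁻¹ := by rw [S.comm_PL hbP h2]; group
    have e : b * w * b' * x * (b * w * b')⁻¹ = b * (w * (b' * x * b'⁻¹) * w⁻¹) * b⁻¹ := by group
    rw [e, e1, e2]
    exact h2

/-- `S` and `X_9` generate `J 1 9` -/
theorem J19_le {M : Subgroup H} (hM : (Sy : Subgroup H) ≤ M) (h9 : Pm S N (E.Ph M) 9) : E.I (J S.XZ 1 9) ≤ M := by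
  rintro _ ⟨x, hx, hxJ, rfl⟩
  have h1 : (J S.XZ 1 8 ⊓ N) ⊔ (S.XZ 9 ⊓ N) ≤ E.Ph M := sup_le (U_le_Ph NF E Sy hSy hM) h9
  exact (h1 (NF.j19 ⟨hxJ, hx⟩)).2

/-- the situation for `P` -/
structure PF (E : Emb N K) (S : Full σ G) (Sy : Sylow 2 H) (P : Subgroup H) : Prop where
  hSP : (Sy : Subgroup H) ≤ P
  hPK : P ≤ K
  hN : ¬ N ≤ E.Ph P
  h28 : E.Ph P ≤ normalizer (J S.XZ 2 8 : Set G)
  h9 : Pm S N (E.Ph P) 9

omit NF hSy in
theorem exists_ne_one (NF : NFacts S N) (E : Emb N K) : ∃ h : H, h ≠ 1 :=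
  ⟨E.j (S.o 0 1), fun h => one_ne_zero (S.o_eq_one (E.eq_one (NF.o_mem _ _) h))⟩

theorem pf_of [K.Normal] {C P : Subgroup H} (hQC : normalizer ((E.I (J S.XZ 1 7) : Subgroup H) : Set H) ≤ C)
    (hSP : (Sy : Subgroup H) ≤ P) (hPmin : IsPMinimal 2 ↥P)
    (hPchar : centralizer (((pCore 2 ↥P).map P.subtype : Subgroup H) : Set H) ≤ (pCore 2 ↥P).map P.subtype)
    (hPC : ¬ P ≤ C) : PF E S Sy P := by
  have hSK : (Sy : Subgroup H) ≤ K := by rw [hSy]; exact E.I_le_K _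
  have hPK : P ≤ K := le_of_pminimal Sy hSP hPmin hSK (by rw [normalizer_eq_top_iff.2 inferInstance]; exact le_top)
  have hN : ¬ N ≤ E.Ph P := by
    intro hN
    have h1 := core_bot NF E Sy hSy hSP hN (pCore_map_isPGroup P) (pCore_map_le P) (pCore_map_norm P)
    rw [h1] at hPchar
    obtain ⟨h, hh⟩ := exists_ne_one NF E
    apply hh
    refine mem_bot.1 (hPchar ?_)
    rw [mem_centralizer_iff]
    intro x hx
    have : x = 1 := hx
    rw [this, one_mul, mul_one]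
  have h28 : E.Ph P ≤ normalizer (J S.XZ 2 8 : Set G) := by
    rcases overgroup NF.cond (U_le_Ph NF E Sy hSy hSP) with h | h | h
    · exact absurd h hN
    · exact h
    · exact absurd ((norm_I NF E Sy hSy hPK h).trans hQC) hPC
  refine ⟨hSP, hPK, hN, h28, ?_⟩
  by_contra h9
  have h1 := (norm_of_not NF E Sy hSy hSP hN h28 h9).1
  have h2 := norm_I NF E Sy hSy hPK h1
  rw [← hSy] at h2
  apply (hPmin (Sy.subtype hSP)).1
  exact (normal_subgroupOf_iff_le_normalizer hSP).2 h2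

variable {P : Subgroup H} (hP : PF E S Sy P)

include hP

theorem PF.n1_mem : E.j S.n1 ∈ P := (Cfsg.Agent.H248.TwF4Over.n1_mem NF.cond (U_le_Ph NF E Sy hSy hP.hSP) hP.h9).2

/-- `O_2(P)` -/
theorem core_P : (pCore 2 ↥P).map P.subtype = E.I (J S.XZ 2 8) := by
  apply le_antisymm
  · refine le_J28 NF E ?_ ?_
    · rw [← hSy]
      exact le_sylow_of_norm Sy hP.hSP (pCore_map_isPGroup P) (pCore_map_le P) (pCore_map_norm P)
    · intro x hx
      exact (mem_normalizer_iff.1 (pCore_map_norm P (PF.n1_mem NF E Sy hSy hP)) x).1 hx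
  · have h1 : E.I (J S.XZ 2 8) ≤ (Sy : Subgroup H) := by
      rw [hSy]
      exact E.I_mono (J_mono (by norm_num) le_rfl)
    exact le_pCore_map (E.isPGroup_I (NF.two.to_le (J_mono (by norm_num) le_rfl))) (h1.trans hP.hSP)
      (norm_I NF E Sy hSy hP.hPK hP.h28)

/-- `C_P(W46)` -/
theorem cent_W46 {y : H} (hy : y ∈ K) : (∀ x ∈ E.I S.W46, y * x = x * y) ↔ y ∈ E.I (J S.XZ 2 8) := by
  obtain ⟨y, hyN, rfl⟩ := E.surj y hy
  rw [E.j_mem_I hyN, ← S.centralizer_W46, mem_centralizer_iff]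
  have hW : ∀ x ∈ S.W46, x ∈ N := by
    rintro _ ⟨u, v, rfl⟩
    exact mul_mem (NF.z_mem _ _) (NF.z_mem _ _)
  constructor
  · intro h x hx
    have h1 := h (E.j x) ⟨x, hW x hx, hx, rfl⟩
    rw [← E.mul _ hyN _ (hW x hx), ← E.mul _ (hW x hx) _ hyN] at h1
    exact (E.inj _ (mul_mem hyN (hW x hx)) _ (mul_mem (hW x hx) hyN) h1).symm
  · rintro h _ ⟨x, hx, hxW, rfl⟩
    rw [← E.mul _ hyN _ hx, ← E.mul _ hx _ hyN, h x hxW]

theorem W46_le : E.I S.W46 ≤ E.I (J S.XZ 2 8) := by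
  refine E.I_mono ?_
  rintro _ ⟨u, v, rfl⟩
  exact mul_mem (X_le_J (X := S.XZ) (k := 4) (by norm_num) (by norm_num) ((mem_X4 S).2 ⟨0, u, rfl⟩))
    (X_le_J (X := S.XZ) (k := 6) (by norm_num) (by norm_num) ((mem_X6 S).2 ⟨0, v, rfl⟩))

end P


/-! ### `SL₂` is generated by transvections -/

section SL

variable {F : Type*} [Field F]

/-- upper transvection -/
def up (t : F) : Matrix.SpecialLinearGroup (Fin 2) F := ⟨!![1, t; 0, 1], by simp [Matrix.det_fin_two]⟩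
/-- lower transvection -/
def lo (t : F) : Matrix.SpecialLinearGroup (Fin 2) F := ⟨!![1, 0; t, 1], by simp [Matrix.det_fin_two]⟩

theorem sl_top {R : Subgroup (Matrix.SpecialLinearGroup (Fin 2) F)} (h1 : ∀ t, up t ∈ R) (h2 : ∀ t, lo t ∈ R) : R = ⊤ := by
  have hd : ∀ A : Matrix.SpecialLinearGroup (Fin 2) F, (A : Matrix (Fin 2) (Fin 2) F) 0 0 * (A : Matrix (Fin 2) (Fin 2) F) 1 1 -
      (A : Matrix (Fin 2) (Fin 2) F) 0 1 * (A : Matrix (Fin 2) (Fin 2) F) 1 0 = 1 := by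
    intro A
    rw [← Matrix.det_fin_two]; exact A.2
  have key : ∀ A : Matrix.SpecialLinearGroup (Fin 2) F, (A : Matrix (Fin 2) (Fin 2) F) 1 0 ≠ 0 → A ∈ R := by
    intro A hc
    have hdet := hd A
    have e : A = up (((A : Matrix (Fin 2) (Fin 2) F) 0 0 - 1) / (A : Matrix (Fin 2) (Fin 2) F) 1 0) *
        lo ((A : Matrix (Fin 2) (Fin 2) F) 1 0) *
        up (((A : Matrix (Fin 2) (Fin 2) F) 1 1 - 1) / (A : Matrix (Fin 2) (Fin 2) F) 1 0) := by
      apply Subtype.ext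
      generalize (A : Matrix (Fin 2) (Fin 2) F) = B at hc hdet ⊢
      show B = !![1, (B 0 0 - 1) / B 1 0; 0, 1] * !![1, 0; B 1 0, 1] * !![1, (B 1 1 - 1) / B 1 0; 0, 1]
      rw [Matrix.mul_fin_two, Matrix.mul_fin_two]
      conv_lhs => rw [Matrix.eta_fin_two B]
      have a1 : B 0 0 = (1 * 1 + (B 0 0 - 1) / B 1 0 * B 1 0) * 1 + (1 * 0 + (B 0 0 - 1) / B 1 0 * 1) * 0 := by
        field_simp
        ring
      have a2 : B 0 1 = (1 * 1 + (B 0 0 - 1) / B 1 0 * B 1 0) * ((B 1 1 - 1) / B 1 0) + (1 * 0 + (B 0 0 - 1) / B 1 0 * 1) * 1 := by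
        field_simp
        linear_combination -hdet
      have a3 : B 1 0 = (0 * 1 + 1 * B 1 0) * 1 + (0 * 0 + 1 * 1) * 0 := by ring
      have a4 : B 1 1 = (0 * 1 + 1 * B 1 0) * ((B 1 1 - 1) / B 1 0) + (0 * 0 + 1 * 1) * 1 := by
        field_simp
        ring
      rw [← a1, ← a2, ← a3, ← a4]
    rw [e]
    exact mul_mem (mul_mem (h1 _) (h2 _)) (h1 _)
  rw [eq_top_iff]
  intro A _
  by_cases hc : (A : Matrix (Fin 2) (Fin 2) F) 1 0 = 0
  · have h3 : A * lo 1 ∈ R := by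
      apply key
      have hdet := hd A
      rw [hc, mul_zero, sub_zero] at hdet
      have e : ((A * lo 1 : Matrix.SpecialLinearGroup (Fin 2) F) : Matrix (Fin 2) (Fin 2) F) 1 0 =
          (A : Matrix (Fin 2) (Fin 2) F) 1 1 := by
        rw [Matrix.SpecialLinearGroup.coe_mul, Matrix.mul_apply, Fin.sum_univ_two, hc]
        show 0 * _ + (A : Matrix (Fin 2) (Fin 2) F) 1 1 * (1 : F) = _
        ring
      rw [e]
      intro h
      rw [h, mul_zero] at hdet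
      exact zero_ne_one hdet
    have := mul_mem h3 (inv_mem (h2 1))
    rwa [mul_inv_cancel_right] at this
  · exact key A hc

end SL

section nat

variable {F : Type*} [Field F] {σ : F →+* F} {G : Type u} [Group G] [Finite G] {S : Full σ G} {N : Subgroup G}
variable {H : Type v} [Group H] [Finite H] {K : Subgroup H} (NF : NFacts S N) (E : Emb N K)

/-- coordinates on `W46` -/
def jv (S : Full σ G) (E : Emb N K) (w : Fin 2 → F) : H := E.j (S.e 2 0 (w 0) * S.e 3 0 (w 1))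

theorem W_mem (NF : NFacts S N) (u v : F) : S.e 2 0 u * S.e 3 0 v ∈ N := mul_mem (NF.z_mem _ _) (NF.z_mem _ _)

theorem jv_mem (NF : NFacts S N) (w : Fin 2 → F) : jv S E w ∈ E.I S.W46 :=
  ⟨_, W_mem NF _ _, ⟨_, _, rfl⟩, rfl⟩

theorem jv_surj {h : H} (hh : h ∈ E.I S.W46) : ∃ w, jv S E w = h := by
  obtain ⟨_, hx, ⟨u, v, rfl⟩, rfl⟩ := hh
  exact ⟨![u, v], rfl⟩

theorem zz_comm (u v : F) : S.e 3 0 v * S.e 2 0 u = S.e 2 0 u * S.e 3 0 v :=
  S.comm_Z4 (k := 6) (by norm_num) (by norm_num) ((mem_X6 S).2 ⟨0, v, rfl⟩) u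

theorem jv_inj (NF : NFacts S N) : Function.Injective (jv S E) := by
  intro w w' h
  have h1 := E.inj _ (W_mem NF _ _) _ (W_mem NF _ _) h
  have h2 : (S.e 2 0 (w' 0))⁻¹ * S.e 2 0 (w 0) = S.e 3 0 (w' 1) * (S.e 3 0 (w 1))⁻¹ := by
    calc (S.e 2 0 (w' 0))⁻¹ * S.e 2 0 (w 0) = (S.e 2 0 (w' 0))⁻¹ * (S.e 2 0 (w 0) * S.e 3 0 (w 1)) * (S.e 3 0 (w 1))⁻¹ := by group
      _ = _ := by rw [h1]; group
  have h4 : (S.e 2 0 (w' 0))⁻¹ * S.e 2 0 (w 0) ∈ S.XZ 4 :=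
    mul_mem (inv_mem ((mem_X4 S).2 ⟨0, _, rfl⟩)) ((mem_X4 S).2 ⟨0, _, rfl⟩)
  have h6 : (S.e 2 0 (w' 0))⁻¹ * S.e 2 0 (w 0) ∈ S.XZ 6 := by
    rw [h2]
    exact mul_mem ((mem_X6 S).2 ⟨0, _, rfl⟩) (inv_mem ((mem_X6 S).2 ⟨0, _, rfl⟩))
  have h7 := S.X_inf_near (i := 4) (j := 6) (by norm_num) (by norm_num) h4 h6
  have e1 := (S.injE 2 _ _ _ _ (inv_mul_eq_one.1 h7)).2
  rw [h7] at h2
  have e2 := (S.injE 3 _ _ _ _ (mul_inv_eq_one.1 h2.symm)).2
  funext i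
  fin_cases i
  · exact e1.symm
  · exact e2.symm

theorem jv_add (NF : NFacts S N) (w w' : Fin 2 → F) : jv S E (w + w') = jv S E w * jv S E w' := by
  unfold jv
  rw [← E.mul _ (W_mem NF _ _) _ (W_mem NF _ _)]
  congr 1
  have h2 : S.e 2 0 (w 0) * S.e 2 0 (w' 0) = S.e 2 0 (w 0 + w' 0) := by rw [S.e_mul, zero_mul, add_zero, add_zero]
  have h3 : S.e 3 0 (w 1) * S.e 3 0 (w' 1) = S.e 3 0 (w 1 + w' 1) := by rw [S.e_mul, zero_mul, add_zero, add_zero]
  calc S.e 2 0 ((w + w') 0) * S.e 3 0 ((w + w') 1) = (S.e 2 0 (w 0) * S.e 2 0 (w' 0)) * (S.e 3 0 (w 1) * S.e 3 0 (w' 1)) := by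
        rw [h2, h3]; rfl
    _ = S.e 2 0 (w 0) * (S.e 2 0 (w' 0) * S.e 3 0 (w 1)) * S.e 3 0 (w' 1) := by group
    _ = _ := by rw [← zz_comm]; group

/-- `g` acts as the matrix `A` -/
def Act (S : Full σ G) (E : Emb N K) (g : H) (A : Matrix.SpecialLinearGroup (Fin 2) F) : Prop :=
  ∀ w, g * jv S E w * g⁻¹ = jv S E ((A : Matrix (Fin 2) (Fin 2) F).mulVec w)

theorem Act.one : Act S E 1 1 := by
  intro w
  rw [Matrix.SpecialLinearGroup.coe_one, Matrix.one_mulVec]; group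

theorem Act.mul {g g' : H} {A A' : Matrix.SpecialLinearGroup (Fin 2) F} (h : Act S E g A) (h' : Act S E g' A') :
    Act S E (g * g') (A * A') := by
  intro w
  rw [Matrix.SpecialLinearGroup.coe_mul, ← Matrix.mulVec_mulVec, ← h, ← h']
  group

theorem Act.inv {g : H} {A : Matrix.SpecialLinearGroup (Fin 2) F} (h : Act S E g A) : Act S E g⁻¹ A⁻¹ := by
  intro w
  have h1 := h ((↑A⁻¹ : Matrix (Fin 2) (Fin 2) F).mulVec w)
  rw [Matrix.mulVec_mulVec, ← Matrix.SpecialLinearGroup.coe_mul, mul_inv_cancel, Matrix.SpecialLinearGroup.coe_one,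
    Matrix.one_mulVec] at h1
  rw [← h1]
  group

theorem Act.unique (NF : NFacts S N) {g : H} {A B : Matrix.SpecialLinearGroup (Fin 2) F} (h : Act S E g A) (h' : Act S E g B) : A = B := by
  have h1 : ∀ w, (A : Matrix (Fin 2) (Fin 2) F).mulVec w = (B : Matrix (Fin 2) (Fin 2) F).mulVec w := by
    intro w
    apply jv_inj E NF
    rw [← h w, ← h' w]
  apply Subtype.ext
  apply Matrix.mulVec_injective
  funext w
  exact h1 w

theorem act_o0 (NF : NFacts S N) (t : F) : Act S E (E.j (S.o 0 t)) (up t) := by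
  intro w
  have hv : ((up t : Matrix.SpecialLinearGroup (Fin 2) F) : Matrix (Fin 2) (Fin 2) F).mulVec w = ![w 0 + t * w 1, w 1] := by
    funext i
    fin_cases i <;> simp [up, Matrix.mulVec, dotProduct, Fin.sum_univ_two]
  rw [hv]
  show E.j (S.o 0 t) * E.j (S.e 2 0 (w 0) * S.e 3 0 (w 1)) * (E.j (S.o 0 t))⁻¹ = E.j (S.e 2 0 (w 0 + t * w 1) * S.e 3 0 (w 1))
  rw [← E.conj (NF.o_mem _ _) (W_mem NF _ _)]
  congr 1
  have r4 : S.o 0 t * S.e 2 0 (w 0) = S.e 2 0 (w 0) * S.o 0 t := by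
    have := S.o_e2 0 t 0 (w 0)
    simp only [mul_zero, S.e_zero, mul_one] at this
    exact this
  have r5 : S.o 0 t * S.e 3 0 (w 1) = S.e 3 0 (w 1) * S.o 0 t * S.e 2 0 (t * w 1) := by
    have := S.o_e3 0 t 0 (w 1)
    simp only [map_zero, mul_zero, zero_add, S.o_zero, S.e_zero, mul_one] at this
    exact this
  have r6 : S.o 0 t * S.e 2 0 (t * w 1) = S.e 2 0 (t * w 1) * S.o 0 t := by
    have := S.o_e2 0 t 0 (t * w 1)
    simp only [mul_zero, S.e_zero, mul_one] at this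
    exact this
  have h2 : S.e 2 0 (w 0) * S.e 2 0 (t * w 1) = S.e 2 0 (w 0 + t * w 1) := by rw [S.e_mul, zero_mul, add_zero, add_zero]
  calc S.o 0 t * (S.e 2 0 (w 0) * S.e 3 0 (w 1)) * (S.o 0 t)⁻¹ = (S.o 0 t * S.e 2 0 (w 0)) * S.e 3 0 (w 1) * (S.o 0 t)⁻¹ := by group
    _ = S.e 2 0 (w 0) * (S.o 0 t * S.e 3 0 (w 1)) * (S.o 0 t)⁻¹ := by rw [r4]; group
    _ = S.e 2 0 (w 0) * S.e 3 0 (w 1) * (S.o 0 t * S.e 2 0 (t * w 1)) * (S.o 0 t)⁻¹ := by rw [r5]; group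
    _ = S.e 2 0 (w 0) * (S.e 3 0 (w 1) * S.e 2 0 (t * w 1)) := by rw [r6]; group
    _ = S.e 2 0 (w 0) * S.e 2 0 (t * w 1) * S.e 3 0 (w 1) := by rw [zz_comm]; group
    _ = _ := by rw [h2]

theorem act_o4 (NF : NFacts S N) (t : F) : Act S E (E.j (S.o 4 t)) (lo t) := by
  intro w
  have hv : ((lo t : Matrix.SpecialLinearGroup (Fin 2) F) : Matrix (Fin 2) (Fin 2) F).mulVec w = ![w 0, t * w 0 + w 1] := by
    funext i
    fin_cases i <;> simp [lo, Matrix.mulVec, dotProduct, Fin.sum_univ_two]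
  rw [hv]
  have hn := n1_mem_N NF
  have hn1 : ∀ a b : F, E.j S.n1 * jv S E ![a, b] * (E.j S.n1)⁻¹ = jv S E ![b, a] := by
    intro a b
    show E.j S.n1 * E.j (S.e 2 0 a * S.e 3 0 b) * (E.j S.n1)⁻¹ = E.j (S.e 2 0 b * S.e 3 0 a)
    rw [← E.conj hn (W_mem NF _ _)]
    congr 1
    have h1 : S.n1 * S.e 2 0 a * S.n1⁻¹ = S.e 3 0 a := S.n1_e 2 0 a
    have h2 : S.n1 * S.e 3 0 b * S.n1⁻¹ = S.e 2 0 b := S.n1_e 3 0 b
    calc S.n1 * (S.e 2 0 a * S.e 3 0 b) * S.n1⁻¹ = (S.n1 * S.e 2 0 a * S.n1⁻¹) * (S.n1 * S.e 3 0 b * S.n1⁻¹) := by group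
      _ = _ := by rw [h1, h2, zz_comm]
  have hn2 : S.n1⁻¹ = S.n1 := inv_eq_of_mul_eq_one_left S.n1_sq
  have hjn : (E.j S.n1)⁻¹ = E.j S.n1 := by rw [← E.inv hn, hn2]
  have ho : E.j (S.o 4 t) = E.j S.n1 * E.j (S.o 0 t) * (E.j S.n1)⁻¹ := by
    rw [← E.conj hn (NF.o_mem _ _)]
    congr 1
    exact (S.n1_o 0 t).symm
  have hup := act_o0 E NF t (![w 1, w 0])
  have hv2 : ((up t : Matrix.SpecialLinearGroup (Fin 2) F) : Matrix (Fin 2) (Fin 2) F).mulVec ![w 1, w 0] = ![w 1 + t * w 0, w 0] := by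
    funext i
    fin_cases i <;> simp [up, Matrix.mulVec, dotProduct, Fin.sum_univ_two]
  rw [hv2] at hup
  have hw : w = ![w 0, w 1] := by
    funext i
    fin_cases i <;> rfl
  have h1 := hn1 (w 0) (w 1)
  rw [ho]
  calc E.j S.n1 * E.j (S.o 0 t) * (E.j S.n1)⁻¹ * jv S E w * (E.j S.n1 * E.j (S.o 0 t) * (E.j S.n1)⁻¹)⁻¹ =
      E.j S.n1 * (E.j (S.o 0 t) * ((E.j S.n1)⁻¹ * jv S E w * E.j S.n1) * (E.j (S.o 0 t))⁻¹) * (E.j S.n1)⁻¹ := by group
    _ = E.j S.n1 * (E.j (S.o 0 t) * (E.j S.n1 * jv S E ![w 0, w 1] * (E.j S.n1)⁻¹) * (E.j (S.o 0 t))⁻¹) * (E.j S.n1)⁻¹ := by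
        rw [← hw]
        congr 3
        rw [hjn]
    _ = E.j S.n1 * jv S E ![w 1 + t * w 0, w 0] * (E.j S.n1)⁻¹ := by rw [h1, hup]
    _ = jv S E ![w 0, t * w 0 + w 1] := by rw [hn1, add_comm]

theorem act_J28 (NF : NFacts S N) {x : G} (hx : x ∈ N) (hJ : x ∈ J S.XZ 2 8) : Act S E (E.j x) 1 := by
  intro w
  rw [Matrix.SpecialLinearGroup.coe_one, Matrix.one_mulVec]
  show E.j x * E.j (S.e 2 0 (w 0) * S.e 3 0 (w 1)) * (E.j x)⁻¹ = E.j (S.e 2 0 (w 0) * S.e 3 0 (w 1))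
  rw [← E.conj hx (W_mem NF _ _), S.W46_comm hJ ⟨_, _, rfl⟩, mul_inv_cancel_right]

/-- every element of `J 1 9` acts as an element of `SL₂` -/
theorem exists_act (NF : NFacts S N) {g : H} (hg : g ∈ E.I (J S.XZ 1 9)) : ∃ A, Act S E g A := by
  obtain ⟨x, hx, hxJ, rfl⟩ := hg
  let L : Subgroup G :=
    { carrier := {y | y ∈ N ∧ ∃ A, Act S E (E.j y) A}
      one_mem' := ⟨one_mem _, 1, by rw [E.one]; exact Act.one E⟩
      mul_mem' := by
        rintro a b ⟨ha, A, hA⟩ ⟨hb, B, hB⟩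
        exact ⟨mul_mem ha hb, A * B, by rw [E.mul a ha b hb]; exact Act.mul E hA hB⟩
      inv_mem' := by
        rintro a ⟨ha, A, hA⟩
        exact ⟨inv_mem ha, A⁻¹, by rw [E.inv ha]; exact Act.inv E hA⟩ }
  have h1 : (J S.XZ 1 8 ⊓ N) ⊔ (S.XZ 9 ⊓ N) ≤ L := by
    refine sup_le ?_ ?_
    · rintro y ⟨hy, hyN⟩
      obtain ⟨a, ha, b, hb, rfl⟩ := S.zsys8.split_ll (a := 1) (b := 8) (by norm_num) (by norm_num) hy
      obtain ⟨t, rfl⟩ := (mem_X1 S).1 ha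
      have hbN : b ∈ N := by
        have := N.mul_mem (N.inv_mem (NF.o_mem 0 t)) hyN
        rwa [inv_mul_cancel_left] at this
      exact L.mul_mem ⟨NF.o_mem 0 t, _, act_o0 E NF t⟩ ⟨hbN, _, act_J28 E NF hbN hb⟩
    · rintro y ⟨hy, hyN⟩
      obtain ⟨t, rfl⟩ := (mem_X9 S).1 hy
      exact ⟨NF.o_mem 4 t, _, act_o4 E NF t⟩
  exact (h1 (NF.j19 ⟨hxJ, hx⟩)).2

end nat


section P

variable {F : Type*} [Field F] {σ : F →+* F} {G : Type u} [Group G] [Finite G] {S : Full σ G} {N : Subgroup G}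
variable {H : Type v} [Group H] [Finite H] {K : Subgroup H} (NF : NFacts S N) (E : Emb N K)
  (Sy : Sylow 2 H) (hSy : (Sy : Subgroup H) = E.I (J S.XZ 1 8)) {P : Subgroup H} (hP : PF E S Sy P)

include NF hSy hP

theorem W46_le_P : E.I S.W46 ≤ P := by
  have h1 := W46_le NF E Sy hSy hP
  refine h1.trans ?_
  rw [← core_P NF E Sy hSy hP]
  exact pCore_map_le P

theorem W46_norm : P ≤ normalizer ((E.I S.W46 : Subgroup H) : Set H) := by
  refine norm_I NF E Sy hSy hP.hPK ?_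
  intro y hy
  refine mem_norm_of_le ?_
  intro x hx
  rw [← S.centralizer_J28, mem_centralizer_iff] at hx ⊢
  intro z hz
  have h1 := (mem_normalizer_iff.1 (inv_mem (hP.h28 hy)) z).1 hz
  have h2 := hx _ h1
  calc z * (y * x * y⁻¹) = y * ((y⁻¹ * z * y⁻¹⁻¹) * x) * y⁻¹ := by group
    _ = _ := by rw [h2]; group

/-- **`Y_P`** -/
theorem largest_eq : largestPReducedOf 2 P = E.I S.W46 := by
  have hcore := core_P NF E Sy hSy hP
  have hmem : ∀ x : ↥P, x ∈ pCore 2 ↥P ↔ (x : H) ∈ E.I (J S.XZ 2 8) := by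
    intro x
    rw [← hcore]
    constructor
    · intro h
      exact ⟨x, h, rfl⟩
    · rintro ⟨y, hy, e⟩
      have : y = x := Subtype.ext e
      rwa [← this]
  have hcent : ∀ x : ↥P, x ∈ centralizer (((E.I S.W46).subgroupOf P : Subgroup ↥P) : Set ↥P) ↔ (x : H) ∈ E.I (J S.XZ 2 8) := by
    intro x
    rw [← cent_W46 NF E Sy hSy hP (hP.hPK x.2), mem_centralizer_iff]
    constructor
    · intro h y hy
      exact (congrArg Subtype.val (h ⟨y, W46_le_P NF E Sy hSy hP hy⟩ hy)).symm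
    · intro h y hy
      exact Subtype.ext (h y hy).symm
  have hn : ((E.I S.W46).subgroupOf P).Normal :=
    (normal_subgroupOf_iff_le_normalizer (W46_le_P NF E Sy hSy hP)).2 (W46_norm NF E Sy hSy hP)
  unfold largestPReducedOf largestPReduced
  apply le_antisymm
  · rintro _ ⟨x, hx, rfl⟩
    have h1 : sSup {V : Subgroup ↥P | IsPReducedNormal 2 V} ≤ (E.I S.W46).subgroupOf P := by
      refine sSup_le ?_
      intro V hV y hy
      have h2 : (y : H) ∈ E.I (J S.XZ 2 8) := (hmem y).1 (le_pCore_of_isPReducedNormal hV hy)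
      show (y : H) ∈ E.I S.W46
      obtain ⟨z, hz, hzJ, hzy⟩ := h2
      rw [← hzy, E.j_mem_I hz]
      refine NF.c28 z hz fun w hw => ?_
      have hwC : E.j w ∈ E.I (J S.XZ 2 8) := ⟨w, hw.2, hw.1, rfl⟩
      have hwP : E.j w ∈ P := by
        rw [← hcore] at hwC
        exact pCore_map_le P hwC
      have h3 := pCore_le_centralizer hV ((hmem ⟨E.j w, hwP⟩).2 hwC)
      have h4 := congrArg Subtype.val (mem_centralizer_iff.1 h3 y hy)
      have h5 : (y : H) * E.j w = E.j w * (y : H) := h4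
      rw [← hzy, ← E.mul _ hz _ hw.2, ← E.mul _ hw.2 _ hz] at h5
      exact E.inj _ (mul_mem hz hw.2) _ (mul_mem hw.2 hz) h5
    exact h1 hx
  · intro x hx
    have hxP := W46_le_P NF E Sy hSy hP hx
    refine ⟨⟨x, hxP⟩, ?_, rfl⟩
    refine (le_sSup (a := (E.I S.W46).subgroupOf P) ?_ : (E.I S.W46).subgroupOf P ≤ _) hx
    show IsPReducedNormal 2 ((E.I S.W46).subgroupOf P)
    rw [isPReducedNormal_iff]
    refine ⟨hn, ⟨⟨⟨?_⟩⟩, ?_⟩, ?_⟩
    · rintro ⟨a, ha⟩ ⟨b, hb⟩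
      apply Subtype.ext
      apply Subtype.ext
      show (a : H) * b = b * a
      exact (cent_W46 NF E Sy hSy hP (hP.hPK a.2)).2 (W46_le NF E Sy hSy hP ha) _ hb
    · intro a ha
      apply Subtype.ext
      show (a : H) ^ 2 = 1
      obtain ⟨w, hw⟩ := jv_surj E (S := S) ha
      replace hw : jv S E w = (a : H) := hw
      rw [← hw, pow_two, ← jv_add E NF]
      have h2 : w + w = 0 := by
        funext i
        have := S.two
        show w i + w i = 0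
        rw [← two_mul, this, zero_mul]
      rw [h2]
      show E.j (S.e 2 0 0 * S.e 3 0 0) = 1
      rw [S.e_zero, S.e_zero, mul_one, E.one]
    · intro D hD hp
      have h2 : D ≤ pCore 2 ↥P := by
        refine Lib.Cores.le_pCore hD ?_
        rintro ⟨x, hx⟩
        obtain ⟨k, hk⟩ := hp x hx
        have h3 := (hmem _).2 ((hcent _).1 hk)
        obtain ⟨l, hl⟩ := Lib.Cores.pCore_isPGroup (G := ↥P) 2 ⟨x ^ 2 ^ k, h3⟩
        refine ⟨k + l, Subtype.ext ?_⟩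
        have h4 : (x ^ 2 ^ k) ^ 2 ^ l = 1 := congrArg Subtype.val hl
        show x ^ 2 ^ (k + l) = 1
        rw [pow_add, pow_mul, h4]
      intro x hx
      exact (hcent x).2 ((hmem x).1 (h2 hx))

/-- `P ≤ J 1 9` -/
theorem P_le_J19 (hPmin : IsPMinimal 2 ↥P) : P ≤ E.I (J S.XZ 1 9) := by
  refine le_of_pminimal Sy hP.hSP hPmin ?_ (norm_I NF E Sy hSy hP.hPK (norm_J19 NF E Sy hSy hP.hSP hP.hN hP.h28))
  rw [hSy]
  exact E.I_mono (J_mono le_rfl (by norm_num))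

theorem o0_mem (t : F) : E.j (S.o 0 t) ∈ P := by
  apply hP.hSP
  rw [hSy]
  exact ⟨_, NF.o_mem _ _, X_le_J (X := S.XZ) (k := 1) (by norm_num) (by norm_num) ((mem_X1 S).2 ⟨t, rfl⟩), rfl⟩

theorem o4_mem (t : F) : E.j (S.o 4 t) ∈ P := by
  have h1 : S.o 4 t ∈ S.XZ 9 ⊓ N := ⟨(mem_X9 S).2 ⟨t, rfl⟩, NF.o_mem _ _⟩
  exact (hP.h9 h1).2

/-- **the natural module** -/
theorem natural (hPmin : IsPMinimal 2 ↥P) : IsNaturalSL2Module F (E.I S.W46) P := by
  refine ⟨W46_norm NF E Sy hSy hP, ?_⟩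
  have hact : ∀ l : ↥P, ∃ A, Act S E (l : H) A := fun l => exists_act E NF (P_le_J19 NF E Sy hSy hP hPmin l.2)
  choose ρ hρ using hact
  have hρ1 : ρ 1 = 1 := Act.unique E NF (hρ 1) (Act.one E)
  let ρ' : ↥P →* Matrix.SpecialLinearGroup (Fin 2) F :=
    { toFun := ρ
      map_one' := hρ1
      map_mul' := fun x y => Act.unique E NF (hρ (x * y)) (Act.mul E (hρ x) (hρ y)) }
  let f : (Fin 2 → F) → Additive ↥(E.I S.W46) := fun w => Additive.ofMul ⟨jv S E w, jv_mem E NF w⟩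
  have hf : Function.Bijective f := by
    constructor
    · intro w w' h
      apply jv_inj E NF
      exact congrArg (fun x : Additive ↥(E.I S.W46) => ((Additive.toMul x : ↥(E.I S.W46)) : H)) h
    · intro x
      obtain ⟨w, hw⟩ := jv_surj E (S := S) (Additive.toMul x).2
      exact ⟨w, congrArg Additive.ofMul (Subtype.ext hw)⟩
  let e : (Fin 2 → F) ≃+ Additive ↥(E.I S.W46) :=
    { Equiv.ofBijective f hf with
      map_add' := by
        intro w w'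
        exact congrArg Additive.ofMul (Subtype.ext (jv_add E NF w w') :
          (⟨jv S E (w + w'), jv_mem E NF _⟩ : ↥(E.I S.W46)) = ⟨jv S E w, jv_mem E NF _⟩ * ⟨jv S E w', jv_mem E NF _⟩) }
  have he : ∀ w, e w = Additive.ofMul ⟨jv S E w, jv_mem E NF w⟩ := fun w => rfl
  refine ⟨ρ', e.symm, ?_, ?_, ?_⟩
  · have h1 : ρ'.range = ⊤ := by
      refine sl_top (fun t => ?_) (fun t => ?_)
      · exact ⟨⟨_, o0_mem NF E Sy hSy hP t⟩, Act.unique E NF (hρ _) (act_o0 E NF t)⟩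
      · exact ⟨⟨_, o4_mem NF E Sy hSy hP t⟩, Act.unique E NF (hρ _) (act_o4 E NF t)⟩
    exact MonoidHom.range_eq_top.1 h1
  · ext l
    rw [MonoidHom.mem_ker]
    show ρ l = 1 ↔ (l : H) ∈ centralizer ((E.I S.W46 : Subgroup H) : Set H)
    rw [mem_centralizer_iff]
    constructor
    · intro h x hx
      obtain ⟨w, rfl⟩ := jv_surj E (S := S) hx
      have h1 := hρ l w
      rw [h, Matrix.SpecialLinearGroup.coe_one, Matrix.one_mulVec] at h1
      calc jv S E w * (l : H) = ((l : H) * jv S E w * (l : H)⁻¹) * (l : H) := by rw [h1]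
        _ = _ := by group
    · intro h
      refine Act.unique E NF (hρ l) ?_
      intro w
      rw [Matrix.SpecialLinearGroup.coe_one, Matrix.one_mulVec, ← h _ (jv_mem E NF w)]
      group
  · intro l v
    obtain ⟨w, hw⟩ := jv_surj E (S := S) v.2
    have h1 := hρ l w
    rw [hw] at h1
    refine ⟨⟨jv S E ((ρ l : Matrix (Fin 2) (Fin 2) F).mulVec w), jv_mem E NF _⟩, h1.symm, ?_⟩
    have h2 : (Additive.ofMul v : Additive ↥(E.I S.W46)) = e w := by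
      rw [he]
      exact congrArg Additive.ofMul (Subtype.ext hw.symm)
    rw [h2, ← he, e.symm_apply_apply, e.symm_apply_apply]
    rfl

/-- `P ∩ C(Y_P) = O_2(P)` -/
theorem inf_cent : P ⊓ centralizer ((E.I S.W46 : Subgroup H) : Set H) = (pCore 2 ↥P).map P.subtype := by
  have hcore := core_P NF E Sy hSy hP
  apply le_antisymm
  · rintro x ⟨hx, hx'⟩
    rw [hcore, ← cent_W46 NF E Sy hSy hP (hP.hPK hx)]
    intro y hy
    exact (mem_centralizer_iff.1 hx' y hy).symm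
  · intro x hx
    have hxP := pCore_map_le P hx
    refine ⟨hxP, ?_⟩
    rw [hcore] at hx
    show x ∈ centralizer _
    rw [mem_centralizer_iff]
    intro y hy
    exact ((cent_W46 NF E Sy hSy hP (hP.hPK hxP)).2 hx y hy).symm

/-- `P* = P` -/
theorem pstar_eq (hPmin : IsPMinimal 2 ↥P) {Q Pstar : Subgroup H} (hQ : Q = E.I (J S.XZ 1 7))
    (hPstar : Pstar = (normalClosure ((Q.subgroupOf P : Subgroup ↥P) : Set ↥P)).map P.subtype ⊔ (pCore 2 ↥P).map P.subtype) :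
    Pstar = P := by
  have hcore := core_P NF E Sy hSy hP
  rw [hPstar, ← Subgroup.map_sup]
  set L := normalClosure ((Q.subgroupOf P : Subgroup ↥P) : Set ↥P) ⊔ pCore 2 ↥P with hL
  have hLn : L.Normal := by
    have h1 : (pCore 2 ↥P).Normal := Lib.Cores.pCore_normal 2
    exact inferInstance
  apply le_antisymm (map_subtype_le _)
  refine le_of_pminimal Sy hP.hSP hPmin ?_ ?_
  · intro s hs
    have hs' := hs
    rw [hSy] at hs'
    obtain ⟨x, hx, hxU, rfl⟩ := hs'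
    obtain ⟨a, ha, b, hb, rfl⟩ := S.zsys8.split_ll (a := 1) (b := 8) (by norm_num) (by norm_num) hxU
    obtain ⟨t, rfl⟩ := (mem_X1 S).1 ha
    have hbN : b ∈ N := by
      have := N.mul_mem (N.inv_mem (NF.o_mem 0 t)) hx
      rwa [inv_mul_cancel_left] at this
    rw [E.mul _ (NF.o_mem 0 t) _ hbN]
    refine mul_mem ?_ ?_
    · refine ⟨⟨_, o0_mem NF E Sy hSy hP t⟩, ?_, rfl⟩
      refine (le_sup_left : _ ≤ L) (subset_normalClosure ?_)
      show E.j (S.o 0 t) ∈ Q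
      rw [hQ]
      exact ⟨_, NF.o_mem _ _, X_le_J (X := S.XZ) (k := 1) (by norm_num) (by norm_num) ha, rfl⟩
    · have h1 : E.j b ∈ (pCore 2 ↥P).map P.subtype := by
        rw [hcore]
        exact ⟨b, hbN, hb, rfl⟩
      obtain ⟨y, hy, e⟩ := h1
      exact ⟨y, (le_sup_right : _ ≤ L) hy, e⟩
  · rw [← normal_subgroupOf_iff_le_normalizer (map_subtype_le _), subgroupOf,
      comap_map_eq_self_of_injective P.subtype_injective]
    exact hLn

/-- **the unique maximal overgroup of `S`** -/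
theorem uniq_max [K.Normal] (hPmin : IsPMinimal 2 ↥P) {C : Subgroup H}
    (hNZ : normalizer ((E.I (S.Zc 2) : Subgroup H) : Set H) ≤ C) (hPC : ¬ P ≤ C)
    {M : Subgroup H} (hMP : M < P) (hSM : (Sy : Subgroup H) ≤ M) (hmax : ∀ M' : Subgroup H, M ≤ M' → M' < P → M' = M) :
    M = P ⊓ C := by
  have hMK : M ≤ K := hMP.le.trans hP.hPK
  have hPh : E.Ph M ≤ E.Ph P := fun x hx => ⟨hx.1, hMP.le hx.2⟩
  have hN : ¬ N ≤ E.Ph M := fun h => hP.hN (h.trans hPh)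
  have h28 : E.Ph M ≤ normalizer (J S.XZ 2 8 : Set G) := hPh.trans hP.h28
  have h9 : ¬ Pm S N (E.Ph M) 9 := by
    intro h9
    have h1 := J19_le NF E Sy hSy hSM h9
    exact hMP.not_ge ((P_le_J19 NF E Sy hSy hP hPmin).trans h1)
  have h1 := norm_I NF E Sy hSy hMK (norm_of_not NF E Sy hSy hSM hN h28 h9).2
  exact (hmax (P ⊓ C) (le_inf hMP.le (h1.trans hNZ)) (lt_of_le_of_ne inf_le_left fun h => hPC (inf_eq_left.1 h))).symm

end P

/-- **S3046 for `H` with a normal subgroup of type `²F₄` in coordinates** -/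
theorem main {F : Type} [Field F] [Fintype F] (hchar : ringChar F = 2) {σ : F →+* F} {G : Type u} [Group G] [Finite G]
    {S : Full σ G} {N : Subgroup G} {H : Type v} [Group H] [Finite H] {K : Subgroup H} [K.Normal]
    (NF : NFacts S N) (E : Emb N K) (Sy : Sylow 2 H) (hSy : (Sy : Subgroup H) = E.I (J S.XZ 1 8)) (Z C Q : Subgroup H)
    (hZ : Z = omegaOne 2 ((Sy : Subgroup H) ⊓ centralizer ((Sy : Subgroup H) : Set H)))
    (hCloc : ∃ T : Subgroup H, IsPGroup 2 ↥T ∧ T ≠ ⊥ ∧ C = normalizer (T : Set H))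
    (hCmax : ∀ L : Subgroup H, (∃ T : Subgroup H, IsPGroup 2 ↥T ∧ T ≠ ⊥ ∧ L = normalizer (T : Set H)) → C ≤ L → L = C)
    (hNZ : normalizer (Z : Set H) ≤ C) (hQ : Q = (pCore 2 ↥C).map C.subtype)
    (P : Subgroup H) (hSP : (Sy : Subgroup H) ≤ P) (hPmin : IsPMinimal 2 ↥P)
    (hPchar : centralizer (((pCore 2 ↥P).map P.subtype : Subgroup H) : Set H) ≤ (pCore 2 ↥P).map P.subtype)
    (hPC : ¬ P ≤ C) (Pstar : Subgroup H)
    (hPstar : Pstar = (normalClosure ((Q.subgroupOf P : Subgroup ↥P) : Set ↥P)).map P.subtype ⊔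
      (pCore 2 ↥P).map P.subtype) :
    (∃ (F : Type) (_ : Field F) (_ : Fintype F), ringChar F = 2 ∧
       IsNaturalSL2Module F (largestPReducedOf 2 P) Pstar ∧
       Pstar ⊓ centralizer (largestPReducedOf 2 P : Set H) = (pCore 2 ↥P).map P.subtype) ∧
    omegaOne 2 (((Sy : Subgroup H) ⊓ Pstar) ⊓ centralizer (((Sy : Subgroup H) ⊓ Pstar : Subgroup H) : Set H)) ≤ C ∧
    ((omegaOne 2 (((Sy : Subgroup H) ⊓ Pstar) ⊓ centralizer (((Sy : Subgroup H) ⊓ Pstar : Subgroup H) : Set H))).subgroupOf C).Normal ∧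
    ∀ M : Subgroup H, M < P → (Sy : Subgroup H) ≤ M → (∀ M' : Subgroup H, M ≤ M' → M' < P → M' = M) → M = P ⊓ C := by
  have hZe := Z_eq NF E Sy hSy hZ
  rw [hZe] at hNZ
  have hQe := Q_eq NF E Sy hSy hCloc hNZ hQ
  have hP := pf_of NF E Sy hSy (norm_Q_le NF E Sy hSy hCloc hNZ hQ hCmax) hSP hPmin hPchar hPC
  have hPs := pstar_eq NF E Sy hSy hP hPmin hQe hPstar
  have hl := largest_eq NF E Sy hSy hP
  subst hPs
  have hinf : (Sy : Subgroup H) ⊓ Pstar = Sy := inf_eq_left.2 hSP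
  rw [hinf, ← hZ, hZe, hl]
  have hZC : E.I (S.Zc 2) ≤ C := le_trans le_normalizer hNZ
  refine ⟨⟨F, inferInstance, inferInstance, hchar, natural NF E Sy hSy hP hPmin, inf_cent NF E Sy hSy hP⟩, hZC, ?_, ?_⟩
  · exact (normal_subgroupOf_iff_le_normalizer hZC).2 (C_norm_Z NF E Sy hSy hCloc hNZ hQ)
  · intro M h1 h2 h3
    exact uniq_max NF E Sy hSy hP hPmin hNZ hPC h1 h2 h3

end Cfsg.Agent.H371.PU
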